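import Groth.Agent.H14.GMGlue.Psi
import Groth.Agent.H14.Sep.Rep

/-!
Gluing the targets of good moduli spaces of a saturated open cover.
-/

set_option autoImplicit false
set_option backward.isDefEq.respectTransparency false
set_option backward.isDefEq.respectTransparency.types false
set_option linter.style.haveILetI false

universe u

open CategoryTheory CategoryTheory.Limits AlgebraicGeometry Opposite

noncomputable section

namespace Groth.Agent.H14.GMGlue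

open Groth.Agent.Lib Groth.Agent.Lib.AlgStack
open Groth.Agent.H14.UB (psiAt ptMap ptMap_eq_psiAt psiAt_map)
open Groth.Agent.H14.CohBC (CompactPullbacks)
open StMod (sch bmap)
open FibCat (IsFibGrpd fp fpFst fpSnd overCat)
open AlgSt (IsAlgStack ofSp ofSpMap fullSub subIncl)

variable {S : Scheme.{u}}

/-- Good moduli spaces of a saturated open cover. -/
structure Datum (𝒳 : AlgSt.Cat S) where
  h𝒳 : IsAlgStack Scheme.fppfPrecoverage 𝒳
  J : Type u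
  Q : J → 𝒳.obj → Prop
  hQ : ∀ i, AlgSt.IsOpenSubstack 𝒳 (Q i) Scheme.fppfPrecoverage
  hcov : ∀ x : AlgSt.Points 𝒳, ∃ i, x ∈ Set.range (AlgSt.Points.map (subIncl 𝒳 (Q i)))
  Y : J → Over S
  hY : ∀ i, CompactPullbacks ((AlgSp.yon S).obj (Y i))
  φ : ∀ i, fullSub 𝒳 (Q i) ⥤ᵇ ofSp ((AlgSp.yon S).obj (Y i))
  hqc : ∀ i, AlgSt.IsQuasiCompactMor Scheme.fppfPrecoverage (φ i)
  hqs : ∀ i, AlgSt.IsQuasiSeparatedMor (φ i)
  hφ : ∀ i, StMod.IsGoodModuli (φ i)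
  hO : ∀ (i : J) (U : (Y i).left.Opens), CompactPullbacks ((AlgSp.yon S).obj (Over.mk (U.ι ≫ (Y i).hom)))
  hsat : ∀ i j, AlgSt.Points.map (φ i) ⁻¹' (AlgSt.Points.map (φ i) ''
        (AlgSt.Points.map (subIncl 𝒳 (Q i)) ⁻¹' Set.range (AlgSt.Points.map (subIncl 𝒳 (Q j))))) =
      AlgSt.Points.map (subIncl 𝒳 (Q i)) ⁻¹' Set.range (AlgSt.Points.map (subIncl 𝒳 (Q j)))

namespace Datum

variable {𝒳 : AlgSt.Cat S} (D : Datum 𝒳)

/-- The points of a member of the cover. -/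
def W (i : D.J) : Set (AlgSt.Points 𝒳) := Set.range (AlgSt.Points.map (subIncl 𝒳 (D.Q i)))

theorem isOpen_W (i : D.J) : IsOpen (D.W i) := Chart.OpenSub.isOpen_range D.h𝒳 (D.hQ i)

theorem isFib (i : D.J) : IsFibGrpd (fullSub 𝒳 (D.Q i)).p := (D.hQ i).2.1.isStack.1

theorem Q_iff (i : D.J) (o : 𝒳.obj) : D.Q i o ↔ ∀ u, pt D.h𝒳.isStack.1 o u ∈ D.W i := by
  refine Iff.trans ?_ Set.range_subset_iff
  exact Iff.of_eq (congrFun (Chart.OpenSub.eq_sub D.h𝒳 (D.hQ i)) o)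

theorem isClosedMap_img (i : D.J) : IsClosedMap (imgPt (D.φ i)) :=
  (good_image (D.hQ i).2.1 (D.hY i) (D.φ i) (D.hqc i) (D.hqs i) (D.hφ i)).1

/-- The open part of `Y i` lying under the intersection with the `j`-th member. -/
def O (i j : D.J) : (D.Y i).left.Opens :=
  ⟨(imgPt (D.φ i) '' (AlgSt.Points.map (subIncl 𝒳 (D.Q i)) ⁻¹' D.W j)ᶜ)ᶜ,
    (D.isClosedMap_img i _ ((D.isOpen_W j).preimage
      (Chart.Basic.continuous_map D.h𝒳 _)).isClosed_compl).isOpen_compl⟩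

theorem img_mem_O_iff (i j : D.J) (p : AlgSt.Points (fullSub 𝒳 (D.Q i))) :
    imgPt (D.φ i) p ∈ D.O i j ↔ AlgSt.Points.map (subIncl 𝒳 (D.Q i)) p ∈ D.W j := by
  constructor
  · intro h
    by_contra hn
    exact h ⟨p, hn, rfl⟩
  · rintro hp ⟨q, hq, e⟩
    refine hq ?_
    have : q ∈ AlgSt.Points.map (D.φ i) ⁻¹' (AlgSt.Points.map (D.φ i) ''
        (AlgSt.Points.map (subIncl 𝒳 (D.Q i)) ⁻¹' D.W j)) := ⟨p, hp, ((map_eq_iff _ _ _).2 e).symm⟩
    exact (D.hsat i j).subset this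

/-- The morphism to `Y i` under an object of the `i`-th member. -/
def ψ (i : D.J) (o : 𝒳.obj) (ho : D.Q i o) : 𝒳.p.obj o ⟶ D.Y i := psiAt (D.φ i) ⟨o, ho⟩

theorem ψ_map (i : D.J) {o' o : 𝒳.obj} (k : o' ⟶ o) (ho' : D.Q i o') (ho : D.Q i o) :
    𝒳.p.map k ≫ D.ψ i o ho = D.ψ i o' ho' :=
  psiAt_map (D.φ i) (ObjectProperty.homMk k : (⟨o', ho'⟩ : (fullSub 𝒳 (D.Q i)).obj) ⟶ ⟨o, ho⟩)

theorem ψ_mem_O_iff (i j : D.J) (o : 𝒳.obj) (ho : D.Q i o) (u : sch 𝒳 o) :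
    (D.ψ i o ho).left u ∈ D.O i j ↔ pt D.h𝒳.isStack.1 o u ∈ D.W j := by
  have h1 := D.img_mem_O_iff i j (pt (D.isFib i) ⟨o, ho⟩ u)
  rw [imgPt_pt, map_subIncl_pt D.h𝒳.isStack.1 (D.isFib i)] at h1
  exact h1

theorem exists_over (i : D.J) {V : Over S} (a : V ⟶ D.Y i) (v : V.left) :
    ∃ (o : 𝒳.obj) (ho : D.Q i o) (b : 𝒳.p.obj o ⟶ V) (u : sch 𝒳 o),
      b ≫ a = D.ψ i o ho ∧ b.left u = v := by
  obtain ⟨x, b, u, hb, hu⟩ := UB.exists_obj_over (M := (AlgSp.ofScheme S).obj (D.Y i)) (D.hQ i).2.1 (D.hY i)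
    (D.hqc i) (D.hqs i) (D.hφ i) ((AlgSp.yon S).map a) v
  exact ⟨x.obj, x.property, b, u, (AlgSp.yon S).map_injective
    (((AlgSp.yon S).map_comp b a).trans (hb.trans (ptMap_eq_psiAt _ _))), hu⟩

/-- Maps out of an open part of `Y i` are determined on the stack. -/
theorem ext (i : D.J) {V : Over S} (a : V ⟶ D.Y i) [IsOpenImmersion a.left] {X : Scheme.{u}}
    {f f' : V.left ⟶ X}
    (h : ∀ (o : 𝒳.obj) (ho : D.Q i o) (b : 𝒳.p.obj o ⟶ V), b ≫ a = D.ψ i o ho →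
      b.left ≫ f = b.left ≫ f') : f = f' :=
  UB.ext_of_fibre (M := (AlgSp.ofScheme S).obj (D.Y i)) (D.hQ i).2.1 (D.hY i) (D.hqc i) (D.hqs i) (D.hφ i)
    ((AlgSp.yon S).map a) ((AlgSp.repWith_yon_map_iff _ _).2 (inferInstanceAs (Etale a.left))) f f'
    fun x b hb => h x.obj x.property b ((AlgSp.yon S).map_injective
      (((AlgSp.yon S).map_comp b a).trans (hb.trans (ptMap_eq_psiAt _ _))))

/-- The part `O i j` over the base. -/
abbrev Ov (i j : D.J) : Over S := Over.mk ((D.O i j).ι ≫ (D.Y i).hom)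

/-- Its inclusion. -/
abbrev jv (i j : D.J) : D.Ov i j ⟶ D.Y i := Over.homMk (D.O i j).ι

instance (i j : D.J) : IsOpenImmersion (D.jv i j).left := inferInstanceAs (IsOpenImmersion (D.O i j).ι)

theorem Q_of_over (i j : D.J) (o : 𝒳.obj) (ho : D.Q i o) (b : 𝒳.p.obj o ⟶ D.Ov i j)
    (hb : b ≫ D.jv i j = D.ψ i o ho) : D.Q j o :=
  (D.Q_iff j o).2 fun u => (D.ψ_mem_O_iff i j o ho u).1 (by rw [← hb]; exact (b.left u).2)

theorem exists_trans (i j : D.J) :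
    ∃ g : D.Ov i j ⟶ D.Y j, ∀ (o : 𝒳.obj) (hi : D.Q i o) (hj : D.Q j o) (b : 𝒳.p.obj o ⟶ D.Ov i j),
      b ≫ D.jv i j = D.ψ i o hi → b ≫ g = D.ψ j o hj := by
  let M' : AlgSp.Space S := (AlgSp.ofScheme S).obj (D.Ov i j)
  let g₀ := (AlgSp.yon S).map (D.jv i j)
  have hX := Chart.Basic.isAlgStack_fp (IsAlg.isAlgStack_ofSp ((AlgSp.ofScheme S).obj (D.Y i)))
    (IsAlg.isAlgStack_ofSp M') (D.hQ i).2.1 (ofSpMap g₀) (D.φ i)
  let π₁ := fpFst (ofSpMap g₀) (D.φ i)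
  let p₂ := fpSnd (ofSpMap g₀) (D.φ i)
  have heq : ∀ P, psiAt π₁ P ≫ D.jv i j = eqToHom (p₂.w_obj P).symm ≫ psiAt (D.φ i) (p₂.obj P) := fun P => by
    rw [← psiAt_ofSpMap, psiAt_congr (FibCat.fpIso (ofSpMap g₀) (D.φ i)) P, psiAt_comp]
  have hK : ∀ P, D.Q j (p₂.obj P).obj := fun P =>
    D.Q_of_over i j (p₂.obj P).obj (p₂.obj P).property (eqToHom (p₂.w_obj P) ≫ psiAt π₁ P) (by
      rw [Category.assoc, heq, ← Category.assoc, eqToHom_trans, eqToHom_refl, Category.id_comp]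
      rfl)
  let K := BasedFunctor.comp p₂ (subIncl 𝒳 (D.Q i))
  let L : fp (ofSpMap g₀) (D.φ i) ⥤ᵇ fullSub 𝒳 (D.Q j) :=
    { toFunctor := ObjectProperty.lift (D.Q j) K.toFunctor hK
      w := K.w }
  have hM' : CompactPullbacks ((AlgSp.yon S).obj (D.Ov i j)) := D.hO i (D.O i j)
  obtain ⟨g, hg, -⟩ := UB.existsUnique_factor (M := M') (π' := π₁) (BasedFunctor.comp L (D.φ j)) hX hM'
    (Chart.QC.isQuasiCompactMor_fpFst (D.hQ i).2.1 (IsAlg.isAlgStack_ofSp ((AlgSp.ofScheme S).obj (D.Y i)))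
      (IsAlg.isAlgStack_ofSp M') (ofSpMap g₀) (D.hqc i))
    (Sep.Rep.diag_fpFst (ofSpMap g₀) (D.hqs i))
    (UB.isGoodModuli_bc (M := (AlgSp.ofScheme S).obj (D.Y i)) (M' := M') g₀ (D.φ i) (D.hQ i).2.1 (D.hY i)
      (D.hqc i) (D.hqs i) hX.isStack.1 (D.hφ i))
  obtain ⟨g', rfl⟩ := (AlgSp.yon S).map_surjective g
  refine ⟨g', fun o hi hj b hb => ?_⟩
  obtain ⟨P, e, he⟩ := exists_fp_obj (D.jv i j) (D.φ i) ⟨o, hi⟩ b hb
  rw [← he, Category.assoc, ← psiAt_ofSpMap, hg, psiAt_comp, ← Category.assoc, eqToHom_trans]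
  have eL : L.obj P = (⟨o, hj⟩ : (fullSub 𝒳 (D.Q j)).obj) :=
    ObjectProperty.FullSubcategory.ext (congrArg (α := (fullSub 𝒳 (D.Q i)).obj) (fun x => x.obj) e)
  have : ∀ (x : (fullSub 𝒳 (D.Q j)).obj) (ex : x = ⟨o, hj⟩) (w : 𝒳.p.obj o = 𝒳.p.obj x.obj),
      eqToHom w ≫ psiAt (D.φ j) x = D.ψ j o hj := by
    rintro x rfl w
    exact Category.id_comp _
  exact this _ eL _

/-- The transition morphism to `Y j`. -/
def g (i j : D.J) : D.Ov i j ⟶ D.Y j := (D.exists_trans i j).choose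

theorem g_spec (i j : D.J) (o : 𝒳.obj) (hi : D.Q i o) (hj : D.Q j o) (b : 𝒳.p.obj o ⟶ D.Ov i j)
    (hb : b ≫ D.jv i j = D.ψ i o hi) : b ≫ D.g i j = D.ψ j o hj :=
  (D.exists_trans i j).choose_spec o hi hj b hb

theorem range_g (i j : D.J) : Set.range (D.g i j).left ⊆ Set.range (D.O j i).ι := by
  rw [Scheme.Opens.range_ι]
  rintro _ ⟨v, rfl⟩
  obtain ⟨o, ho, b, u, hb, rfl⟩ := D.exists_over i (D.jv i j) v
  have hj := D.Q_of_over i j o ho b hb
  rw [← Scheme.Hom.comp_apply, ← Over.comp_left, D.g_spec i j o ho hj b hb]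
  exact (D.ψ_mem_O_iff j i o hj u).2 ((D.Q_iff i o).1 ho u)

theorem O_self (i : D.J) : D.O i i = ⊤ := by
  refine eq_top_iff.2 fun v _ => ?_
  obtain ⟨o, ho, b, u, hb, rfl⟩ := D.exists_over i (𝟙 (D.Y i)) v
  rw [Category.comp_id] at hb
  rw [hb]
  exact (D.ψ_mem_O_iff i i o ho u).2 ((D.Q_iff i o).1 ho u)

theorem g_self (i : D.J) : D.g i i = D.jv i i :=
  Over.OverMorphism.ext (D.ext i (D.jv i i) fun o ho b hb => by
    rw [← Over.comp_left, ← Over.comp_left, D.g_spec i i o ho ho b hb, hb])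

/-- The transition isomorphism. -/
def t (i j : D.J) : (D.O i j).toScheme ⟶ (D.O j i).toScheme :=
  IsOpenImmersion.lift (D.O j i).ι (D.g i j).left (D.range_g i j)

theorem t_ι (i j : D.J) : D.t i j ≫ (D.O j i).ι = (D.g i j).left := IsOpenImmersion.lift_fac _ _ _

/-- The inclusion of a triple intersection. -/
abbrev inc (i j k : D.J) : pullback (D.O i j).ι (D.O i k).ι ⟶ (D.Y i).left :=
  pullback.fst (D.O i j).ι (D.O i k).ι ≫ (D.O i j).ι

theorem range_inc (i j k : D.J) : Set.range (D.inc i j k) = (D.O i j : Set (D.Y i).left) ∩ D.O i k := by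
  ext y
  constructor
  · rintro ⟨z, rfl⟩
    refine ⟨((pullback.fst (D.O i j).ι (D.O i k).ι) z).2, ?_⟩
    show (pullback.fst (D.O i j).ι (D.O i k).ι ≫ (D.O i j).ι) z ∈ D.O i k
    rw [pullback.condition]
    exact ((pullback.snd (D.O i j).ι (D.O i k).ι) z).2
  · rintro ⟨h1, h2⟩
    obtain ⟨z, hz1, -⟩ := Scheme.Pullback.exists_preimage_pullback
      (f := (D.O i j).ι) (g := (D.O i k).ι) (⟨y, h1⟩ : (D.O i j).toScheme) (⟨y, h2⟩ : (D.O i k).toScheme) rfl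
    exact ⟨z, (Scheme.Hom.comp_apply _ _ z).trans (congrArg (D.O i j).ι hz1)⟩

/-- The triple intersection over the base. -/
abbrev Tv (i j k : D.J) : Over S := Over.mk (D.inc i j k ≫ (D.Y i).hom)

abbrev incv (i j k : D.J) : D.Tv i j k ⟶ D.Y i := Over.homMk (D.inc i j k)

abbrev fstv (i j k : D.J) : D.Tv i j k ⟶ D.Ov i j :=
  Over.homMk (pullback.fst (D.O i j).ι (D.O i k).ι) (Category.assoc _ _ _).symm

instance (i j k : D.J) : IsOpenImmersion (D.incv i j k).left := inferInstanceAs (IsOpenImmersion (D.inc i j k))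

theorem Q_of_triple (i j k : D.J) (o : 𝒳.obj) (ho : D.Q i o) (b : 𝒳.p.obj o ⟶ D.Tv i j k)
    (hb : b ≫ D.incv i j k = D.ψ i o ho) : D.Q j o ∧ D.Q k o := by
  have h : ∀ u, (D.ψ i o ho).left u ∈ (D.O i j : Set (D.Y i).left) ∩ D.O i k := fun u => by
    rw [← D.range_inc, ← hb]
    exact ⟨b.left u, rfl⟩
  exact ⟨(D.Q_iff j o).2 fun u => (D.ψ_mem_O_iff i j o ho u).1 (h u).1,
    (D.Q_iff k o).2 fun u => (D.ψ_mem_O_iff i k o ho u).1 (h u).2⟩

theorem g_triple (i j k : D.J) (o : 𝒳.obj) (hi : D.Q i o) (hj : D.Q j o) (c : sch 𝒳 o ⟶ pullback (D.O i j).ι (D.O i k).ι)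
    (hc : c ≫ D.inc i j k = (D.ψ i o hi).left) :
    c ≫ pullback.fst _ _ ≫ (D.g i j).left = (D.ψ j o hj).left := by
  let b : 𝒳.p.obj o ⟶ D.Tv i j k := Over.homMk c (by
    show c ≫ D.inc i j k ≫ (D.Y i).hom = _
    rw [← Category.assoc, hc]
    exact Over.w (D.ψ i o hi))
  have hb : (b ≫ D.fstv i j k) ≫ D.jv i j = D.ψ i o hi :=
    Over.OverMorphism.ext ((Category.assoc _ _ _).trans hc)
  exact ((Category.assoc _ _ _).symm).trans (congrArg CommaMorphism.left (D.g_spec i j o hi hj _ hb))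

theorem range_triple (i j k : D.J) :
    Set.range (pullback.fst (D.O i j).ι (D.O i k).ι ≫ (D.g i j).left) ⊆ Set.range (D.inc j k i) := by
  rintro _ ⟨v, rfl⟩
  obtain ⟨o, ho, b, u, hb, rfl⟩ := D.exists_over i (D.incv i j k) v
  obtain ⟨hj, hk⟩ := D.Q_of_triple i j k o ho b hb
  rw [D.range_inc]
  show (b.left ≫ pullback.fst (D.O i j).ι (D.O i k).ι ≫ (D.g i j).left) u ∈ (D.O j k : Set (D.Y j).left) ∩ D.O j i
  rw [D.g_triple i j k o ho hj b.left (congrArg CommaMorphism.left hb)]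
  exact ⟨(D.ψ_mem_O_iff j k o hj u).2 ((D.Q_iff k o).1 hk u), (D.ψ_mem_O_iff j i o hj u).2 ((D.Q_iff i o).1 ho u)⟩

/-- The transition morphism on a triple intersection. -/
def t' (i j k : D.J) : pullback (D.O i j).ι (D.O i k).ι ⟶ pullback (D.O j k).ι (D.O j i).ι :=
  IsOpenImmersion.lift (D.inc j k i) _ (D.range_triple i j k)

theorem t'_inc (i j k : D.J) : D.t' i j k ≫ D.inc j k i = pullback.fst _ _ ≫ (D.g i j).left :=
  IsOpenImmersion.lift_fac _ _ _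

theorem cocycle (i j k : D.J) : D.t' i j k ≫ D.t' j k i ≫ D.t' k i j = 𝟙 _ := by
  refine (cancel_mono (D.inc i j k)).1 ?_
  simp only [Category.assoc, Category.id_comp, t'_inc]
  refine D.ext i (D.incv i j k) fun o ho b hb => ?_
  obtain ⟨hj, hk⟩ := D.Q_of_triple i j k o ho b hb
  have h₀ : b.left ≫ D.inc i j k = (D.ψ i o ho).left := congrArg CommaMorphism.left hb
  have h₁ : (b.left ≫ D.t' i j k) ≫ D.inc j k i = (D.ψ j o hj).left := by
    rw [Category.assoc, t'_inc]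
    exact D.g_triple i j k o ho hj b.left h₀
  have h₂ : ((b.left ≫ D.t' i j k) ≫ D.t' j k i) ≫ D.inc k i j = (D.ψ k o hk).left := by
    rw [Category.assoc, t'_inc]
    exact D.g_triple j k i o hj hk _ h₁
  have h₃ := D.g_triple k i j o hk ho _ h₂
  simp only [Category.assoc] at h₃
  exact h₃.trans h₀.symm

/-- The gluing datum. -/
def gd : Scheme.GlueData.{u} where
  J := D.J
  U i := (D.Y i).left
  V p := (D.O p.1 p.2).toScheme
  f i j := (D.O i j).ι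
  f_id i := by
    rw [D.O_self i]
    exact (Scheme.topIso (D.Y i).left).isIso_hom
  t := D.t
  t_id i := (cancel_mono (D.O i i).ι).1 (by
    rw [D.t_ι, Category.id_comp, D.g_self]; rfl)
  t' := D.t'
  t_fac i j k := (cancel_mono (D.O j i).ι).1 (by
    rw [Category.assoc, Category.assoc, D.t_ι, ← pullback.condition]
    exact D.t'_inc i j k)
  cocycle := D.cocycle
  f_open i j := inferInstance

theorem g_over (i j : D.J) : (D.O i j).ι ≫ (D.Y i).hom = (D.t i j ≫ (D.O j i).ι) ≫ (D.Y j).hom := by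
  rw [D.t_ι]
  exact (Over.w (D.g i j)).symm

/-- The glued scheme. -/
def Y₀ : Over S :=
  Over.mk (Multicoequalizer.desc D.gd.diagram S (fun i => (D.Y i).hom) fun ⟨i, j⟩ =>
    show (D.O i j).ι ≫ (D.Y i).hom = (D.t i j ≫ (D.O j i).ι) ≫ (D.Y j).hom from
      D.g_over i j)

/-- The inclusion of `Y i`. -/
def e (i : D.J) : D.Y i ⟶ D.Y₀ :=
  Over.homMk (D.gd.ι i) (Multicoequalizer.π_desc D.gd.diagram S _ _ i)

instance (i : D.J) : IsOpenImmersion (D.e i).left := inferInstanceAs (IsOpenImmersion (D.gd.ι i))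

theorem g_e (i j : D.J) : D.g i j ≫ D.e j = D.jv i j ≫ D.e i :=
  Over.OverMorphism.ext (by
    show (D.g i j).left ≫ D.gd.ι j = (D.O i j).ι ≫ D.gd.ι i
    rw [← D.t_ι, Category.assoc]
    exact D.gd.glue_condition i j)

theorem exists_e_eq (y : D.Y₀.left) : ∃ (i : D.J) (z : (D.Y i).left), (D.e i).left z = y :=
  D.gd.ι_jointly_surjective y

theorem ψ_e (i j : D.J) (o : 𝒳.obj) (hi : D.Q i o) (hj : D.Q j o) : D.ψ j o hj ≫ D.e j = D.ψ i o hi ≫ D.e i := by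
  have hr : Set.range (D.ψ i o hi).left ⊆ Set.range (D.O i j).ι := by
    rw [Scheme.Opens.range_ι]
    rintro _ ⟨u, rfl⟩
    exact (D.ψ_mem_O_iff i j o hi u).2 ((D.Q_iff j o).1 hj u)
  let b : 𝒳.p.obj o ⟶ D.Ov i j := Over.homMk (IsOpenImmersion.lift _ _ hr) (by
    show IsOpenImmersion.lift _ _ hr ≫ (D.O i j).ι ≫ (D.Y i).hom = _
    rw [IsOpenImmersion.lift_fac_assoc]
    exact Over.w (D.ψ i o hi))
  have hb : b ≫ D.jv i j = D.ψ i o hi := Over.OverMorphism.ext (IsOpenImmersion.lift_fac _ _ _)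
  rw [← D.g_spec i j o hi hj b hb, Category.assoc, D.g_e, ← Category.assoc, hb]

theorem mem_W_of_e_eq (i j : D.J) (o : 𝒳.obj) (hj : D.Q j o) (u : sch 𝒳 o)
    (h : (D.e j).left ((D.ψ j o hj).left u) ∈ Set.range (D.e i).left) : pt D.h𝒳.isStack.1 o u ∈ D.W i := by
  obtain ⟨z, hz⟩ := h
  obtain ⟨x, hx, -⟩ := (D.gd.ι_eq_iff j i ((D.ψ j o hj).left u) z).1 hz.symm
  refine (D.ψ_mem_O_iff j i o hj u).1 ?_
  have hx' : (D.O j i).ι x = (D.ψ j o hj).left u := hx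
  rw [← hx']
  exact x.2

end Datum

end Groth.Agent.H14.GMGlue
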