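import Groth.Agent.H14.GMGlue.Proj
import Groth.Agent.H14.CohDesc.UnitLocal
import Groth.Agent.H14.CohDesc.Descend

/-!
The glued morphism is a good moduli space.
-/

set_option autoImplicit false
set_option backward.isDefEq.respectTransparency false
set_option backward.isDefEq.respectTransparency.types false
set_option linter.style.haveILetI false

universe u

open CategoryTheory CategoryTheory.Limits AlgebraicGeometry Opposite

noncomputable section

namespace Groth.Agent.H14.GMGlue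

open Groth.Agent.Lib Groth.Agent.Lib.AlgStack
open Groth.Agent.H14.UB (psiAt psiAt_map ptMap_eq_psiAt ptMap_eq_of_hom)
open Groth.Agent.H14.CohDesc (openEt openHom openIncl res_res unit_res resSect exists_lift_of_cover)
open Groth.Agent.H14.GenFam (baseFun str_baseFun exists_chart_at)
open Groth.Agent.H14.AffPush (cat)
open Groth.Agent.H14.ModDesc (castTop castTop_bijective castTop_castHom mapTop_comap)
open StMod (sch bmap etaOf baseOver)
open FibCat (IsFibGrpd fp fpFst fpSnd overCat)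
open AlgSt (IsAlgStack ofSp ofSpMap fullSub subIncl)

variable {S : Scheme.{u}} {𝒳 : AlgSt.Cat S}

section Arr

variable {Z : Over S} (π : 𝒳 ⥤ᵇ ofSp ((AlgSp.yon S).obj Z)) {E : AlgSp.EtOver ((AlgSp.yon S).obj Z)}
  (e : E.obj.left ⟶ Z) (he : (AlgSp.yon S).map e = E.obj.hom)

include he

theorem eta_sec : (etaOf E).sec.down = e := by
  show ((AlgSp.J S).uliftYonedaEquiv E.obj.hom).down = e
  rw [← he]
  exact congrArg ULift.down ((AlgSp.J S).uliftYonedaEquiv_uliftYoneda_map e)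

theorem baseOver_comp (o : 𝒳.obj) (α : π.obj o ⟶ etaOf E) : baseOver π o α ≫ e = psiAt π o :=
  (AlgSp.yon S).map_injective (by
    rw [Functor.map_comp, he]
    exact (ptMap_eq_of_hom π α).trans (ptMap_eq_psiAt π o))

/-- The arrow to a member of the etale site given by a morphism of schemes. -/
def arr (o : 𝒳.obj) (b : 𝒳.p.obj o ⟶ E.obj.left) (hb : b ≫ e = psiAt π o) : π.obj o ⟶ etaOf E :=
  ⟨eqToHom (π.w_obj o) ≫ b, ULift.ext _ _ (by
    show (eqToHom (π.w_obj o) ≫ b) ≫ (etaOf E).sec.down = (π.obj o).sec.down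
    rw [eta_sec e he, Category.assoc, hb]
    show eqToHom (π.w_obj o) ≫ (eqToHom (π.w_obj o).symm ≫ (π.obj o).sec.down) = _
    rw [← Category.assoc, eqToHom_trans, eqToHom_refl, Category.id_comp])⟩

theorem baseOver_arr (o : 𝒳.obj) (b : 𝒳.p.obj o ⟶ E.obj.left) (hb : b ≫ e = psiAt π o) :
    baseOver π o (arr π e he o b hb) = b := by
  show eqToHom _ ≫ eqToHom _ ≫ b = b
  rw [← Category.assoc, eqToHom_trans, eqToHom_refl, Category.id_comp]

omit he

theorem hom_eq_of_baseOver {o : 𝒳.obj} {α β : π.obj o ⟶ etaOf E} (h : baseOver π o α = baseOver π o β) :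
    α = β :=
  Stk.EltObj.hom_ext ((cancel_epi _).1 h)

end Arr

theorem restrict_topIso {X : Scheme.{u}} {V W : X.Opens} (hle : W ≤ V) (r : Γ(V.toScheme, ⊤)) :
    W.topIso.inv (X.presheaf.map (homOfLE hle).op (V.topIso.hom r)) = (X.homOfLE hle).appTop r := by
  rw [Scheme.homOfLE_appTop]
  show X.presheaf.map _ (X.presheaf.map _ (X.presheaf.map _ r)) = _
  refine (congrArg _ (res_res (X := X) _ _ ((eqToIso V.ι_image_top.symm).op.hom ≫ (homOfLE hle).op) r)).trans ?_
  exact res_res (X := X) _ _ _ r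

/-- Bijectivity of the unit over an open cover gives it on the whole. -/
theorem unitBijective_of_opens {M : AlgSp.Sp S} (π : 𝒳 ⥤ᵇ ofSp M) (E : AlgSp.EtOver M)
    (hX : IsFibGrpd 𝒳.p) {J : Type u} (U : J → E.obj.left.left.Opens) (hU : ⨆ j, U j = ⊤)
    (h : ∀ j (V : E.obj.left.left.Opens), V ≤ U j → Function.Bijective (StMod.unitSect π (etaOf (openEt E V)))) :
    Function.Bijective (StMod.unitSect π (etaOf E)) := by
  let X := E.obj.left.left
  have hloc : ∀ r r' : Γ(X, ⊤), (∀ j, (U j).ι.appTop r = (U j).ι.appTop r') → r = r' := fun r r' hr => by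
    refine TopCat.Sheaf.eq_of_locally_eq' X.sheaf U ⊤ (fun _ => homOfLE le_top) hU.ge r r' fun j => ?_
    have e := hr j
    rw [Scheme.Opens.ι_appTop] at e
    apply (ConcreteCategory.bijective_of_isIso (U j).topIso.inv).injective
    exact (res_res _ _ _ r).trans (e.trans (res_res _ _ _ r').symm)
  refine ⟨(injective_iff_map_eq_zero _).2 fun (r : Γ(X, ⊤)) hr => hloc r 0 fun j => ?_, fun t => ?_⟩
  · refine (h j (U j) le_rfl).1 (StMod.Mod.RelSect.ext _ _ _ fun ξ α => ?_)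
    show (baseOver π ξ α).left.appTop ((U j).ι.appTop r) = (baseOver π ξ α).left.appTop ((U j).ι.appTop 0)
    rw [unit_res, unit_res]
    exact (congrArg (fun k : (StMod.O 𝒳).RelSect π (etaOf E) => k.1 ξ (α ≫ openIncl E (U j))) hr).trans
      (map_zero _).symm
  choose rV hrV using fun j => (h j (U j) le_rfl).2 (resSect π E t (U j))
  let s : ∀ j, Γ(X, U j) := fun j => (U j).topIso.hom (rV j)
  have hres : ∀ (j : J) (P : X.Opens) (hle : P ≤ U j),
      StMod.unitSect π (etaOf (openEt E P)) ((X.homOfLE hle).appTop (rV j)) = resSect π E t P := fun j P hle => by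
    refine StMod.Mod.RelSect.ext _ _ _ fun ξ α => ?_
    let iH : Over.mk (P.ι ≫ E.obj.left.hom) ⟶ Over.mk ((U j).ι ≫ E.obj.left.hom) :=
      Over.homMk (X.homOfLE hle) (by
        show X.homOfLE hle ≫ (U j).ι ≫ E.obj.left.hom = P.ι ≫ E.obj.left.hom
        rw [Scheme.homOfLE_ι_assoc])
    have hiH : iH ≫ openHom E (U j) = openHom E P := Over.OverMorphism.ext (X.homOfLE_ι hle)
    let i : etaOf (openEt E P) ⟶ etaOf (openEt E (U j)) :=
      ⟨iH, by
        rw [← (openIncl E (U j)).map_sec, ← (openIncl E P).map_sec, ← Functor.map_comp_apply, ← op_comp]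
        exact congrArg (fun k : _ ⟶ E.obj.left => M.obj.map k.op (etaOf E).sec) hiH⟩
    have hi : i ≫ openIncl E (U j) = openIncl E P := Stk.EltObj.hom_ext hiH
    have a := congrArg (fun k : (StMod.O 𝒳).RelSect π (etaOf (openEt E (U j))) => k.1 ξ (α ≫ i)) (hrV j)
    change (baseOver π ξ (α ≫ i)).left.appTop (rV j) = t.1 ξ ((α ≫ i) ≫ openIncl E (U j)) at a
    rw [Category.assoc, hi] at a
    refine Eq.trans ?_ a
    refine (CohDesc.appTop_comp_apply _ _ _).trans ?_
    congr 3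
  obtain ⟨r, hr, -⟩ := X.sheaf.existsUnique_gluing' U ⊤ (fun _ => homOfLE le_top) hU.ge s fun j k => by
    apply (ConcreteCategory.bijective_of_isIso (U j ⊓ U k).topIso.inv).injective
    refine (restrict_topIso inf_le_left (rV j)).trans (Eq.trans ?_ (restrict_topIso inf_le_right (rV k)).symm)
    exact (h j _ inf_le_left).1 ((hres j _ inf_le_left).trans (hres k _ inf_le_right).symm)
  have hr' : ∀ j, (U j).ι.appTop r = rV j := fun j => by
    apply (ConcreteCategory.bijective_of_isIso (U j).topIso.hom).injective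
    rw [Scheme.Opens.ι_appTop]
    exact (res_res (X := X) _ _ _ r).trans (hr j)
  refine ⟨r, StMod.Mod.RelSect.ext _ _ _ fun ξ α => ?_⟩
  show (baseOver π ξ α).left.appTop r = t.1 ξ α
  let f : sch 𝒳 ξ ⟶ X := (baseOver π ξ α).left
  refine TopCat.Sheaf.eq_of_locally_eq' (sch 𝒳 ξ).sheaf (fun j => f ⁻¹ᵁ U j) ⊤ (fun _ => homOfLE le_top)
    (le_of_eq (by rw [← Scheme.Hom.preimage_iSup, hU]; rfl)) _ _ fun j => ?_
  obtain ⟨ξ', k, e, hk⟩ := GenFam.exists_obj hX ξ (f ⁻¹ᵁ U j).ι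
  have hr2 : Set.range (bmap 𝒳 k ≫ f) ⊆ Set.range (U j).ι := by
    rw [Scheme.Opens.range_ι, hk]
    rintro _ ⟨z, rfl⟩
    exact (e.hom z).2
  let b : 𝒳.p.obj ξ' ⟶ Over.mk ((U j).ι ≫ E.obj.left.hom) :=
    Over.homMk (IsOpenImmersion.lift (U j).ι _ hr2) (by
      show IsOpenImmersion.lift (U j).ι _ hr2 ≫ (U j).ι ≫ E.obj.left.hom = _
      rw [IsOpenImmersion.lift_fac_assoc, Category.assoc]
      exact (congrArg (bmap 𝒳 k ≫ ·) (Over.w (baseOver π ξ α))).trans (Over.w (𝒳.p.map k)))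
  have hbι : b ≫ openHom E (U j) = baseOver π ξ' (π.map k ≫ α) := by
    rw [← StMod.map_comp_baseOver]
    exact Over.OverMorphism.ext (IsOpenImmersion.lift_fac _ _ hr2)
  let β : π.obj ξ' ⟶ etaOf (openEt E (U j)) := ⟨eqToHom (π.w_obj ξ') ≫ b, by
    rw [← (openIncl E (U j)).map_sec, ← Functor.map_comp_apply, ← op_comp]
    refine Eq.trans ?_ (π.map k ≫ α).map_sec
    refine congrArg (fun q : (π.obj ξ').base ⟶ E.obj.left => M.obj.map q.op (etaOf E).sec) ?_
    show (eqToHom (π.w_obj ξ') ≫ b) ≫ openHom E (U j) = (π.map k ≫ α).hom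
    rw [Category.assoc, hbι]
    simp [StMod.baseOver]⟩
  have hβ : β ≫ openIncl E (U j) = π.map k ≫ α := Stk.EltObj.hom_ext (by
    show (eqToHom (π.w_obj ξ') ≫ b) ≫ openHom E (U j) = (π.map k ≫ α).hom
    rw [Category.assoc, hbι]
    simp [StMod.baseOver])
  have a := congrArg (fun q : (StMod.O 𝒳).RelSect π (etaOf (openEt E (U j))) => q.1 ξ' β) (hrV j)
  change (baseOver π ξ' β).left.appTop (rV j) = t.1 ξ' (β ≫ openIncl E (U j)) at a
  rw [← hr' j, unit_res, hβ] at a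
  have l1 : (bmap 𝒳 k).appTop (f.appTop r) = (bmap 𝒳 k).appTop (t.1 ξ α) :=
    ((StMod.unitSect π (etaOf E) r).2 k α).trans (a.trans (t.2 k α).symm)
  rw [hk, Scheme.Hom.comp_appTop] at l1
  have l2 := (ConcreteCategory.bijective_of_isIso e.hom.appTop).injective l1
  rw [Scheme.Opens.ι_appTop] at l2
  apply (ConcreteCategory.bijective_of_isIso (f ⁻¹ᵁ U j).topIso.inv).injective
  exact (res_res (X := sch 𝒳 ξ) _ _ _ _).trans (l2.trans (res_res (X := sch 𝒳 ξ) _ _ _ _).symm)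

namespace Datum

variable (D : Datum 𝒳)

/-- The data of a member of the etale site lying over one piece. -/
theorem exists_piece (i : D.J) (E : AlgSp.EtOver ((AlgSp.yon S).obj D.Y₀)) (e : E.obj.left ⟶ D.Y₀)
    (he : (AlgSp.yon S).map e = E.obj.hom) (hr : Set.range e.left ⊆ Set.range (D.e i).left) :
    ∃ l : E.obj.left ⟶ D.Y i, l ≫ D.e i = e ∧ Etale l.left := by
  refine ⟨Over.homMk (IsOpenImmersion.lift (D.e i).left e.left hr) (by
    rw [← Over.w (D.e i), IsOpenImmersion.lift_fac_assoc]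
    exact Over.w e), Over.OverMorphism.ext (IsOpenImmersion.lift_fac _ _ _), ?_⟩
  show Etale (IsOpenImmersion.lift (D.e i).left e.left hr)
  have h1 : Etale e.left := (AlgSp.repWith_yon_map_iff _ e).1 (by rw [he]; exact E.property)
  have : Etale (IsOpenImmersion.lift (D.e i).left e.left hr ≫ (D.e i).left) := by
    rw [IsOpenImmersion.lift_fac]
    exact h1
  exact Etale.of_comp _ (D.e i).left

theorem Q_of_arrow (i : D.J) (E : AlgSp.EtOver ((AlgSp.yon S).obj D.Y₀)) (e : E.obj.left ⟶ D.Y₀)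
    (he : (AlgSp.yon S).map e = E.obj.hom) (hr : Set.range e.left ⊆ Set.range (D.e i).left)
    (o : 𝒳.obj) (α : D.π.obj o ⟶ etaOf E) : D.Q i o := by
  refine (D.Q_iff i o).2 fun u => (D.imgPt_π_mem_iff i _).1 ?_
  rw [imgPt_pt, ← baseOver_comp D.π e he o α]
  exact hr ⟨(baseOver D.π o α).left u, rfl⟩

section Piece

variable (i : D.J) (E : AlgSp.EtOver ((AlgSp.yon S).obj D.Y₀)) (e : E.obj.left ⟶ D.Y₀)
    (he : (AlgSp.yon S).map e = E.obj.hom) (hr : Set.range e.left ⊆ Set.range (D.e i).left)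
    (l : E.obj.left ⟶ D.Y i) (hl : l ≫ D.e i = e) (hle : Etale l.left)

/-- The member of the etale site of `Y i`. -/
abbrev piece : AlgSp.EtOver ((AlgSp.yon S).obj (D.Y i)) :=
  AlgSp.EtOver.mk ((AlgSp.yon S).map l) ((AlgSp.repWith_yon_map_iff _ _).2 hle)

include hl in
theorem piece_up_eq (x : (fullSub 𝒳 (D.Q i)).obj) (α : (D.φ i).obj x ⟶ etaOf (piece D i E l hle)) :
    (show 𝒳.p.obj x.obj ⟶ E.obj.left from baseOver (D.φ i) x α) ≫ e = psiAt D.π x.obj := by
  rw [psiAt_π, D.m_eq x.obj i x.property, ← hl, ← Category.assoc]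
  exact congrArg (· ≫ D.e i) (baseOver_comp (D.φ i) (E := piece D i E l hle) l rfl x α)

/-- The arrow downstairs. -/
def up (x : (fullSub 𝒳 (D.Q i)).obj) (α : (D.φ i).obj x ⟶ etaOf (piece D i E l hle)) :
    D.π.obj x.obj ⟶ etaOf E :=
  arr D.π e he x.obj (show 𝒳.p.obj x.obj ⟶ E.obj.left from baseOver (D.φ i) x α) (piece_up_eq D i E e l hl hle x α)

theorem up_nat {x' x : (fullSub 𝒳 (D.Q i)).obj} (φ : x' ⟶ x) (α : (D.φ i).obj x ⟶ etaOf (piece D i E l hle)) :
    D.π.map φ.hom ≫ up D i E e he l hl hle x α = up D i E e he l hl hle x' ((D.φ i).map φ ≫ α) :=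
  hom_eq_of_baseOver D.π (by
    rw [← StMod.map_comp_baseOver, up, up, baseOver_arr, baseOver_arr]
    exact StMod.map_comp_baseOver (D.φ i) φ α)

include hl in
theorem piece_down_eq (o : 𝒳.obj) (ho : D.Q i o) (α : D.π.obj o ⟶ etaOf E) (he' : (AlgSp.yon S).map e = E.obj.hom) :
    (show (fullSub 𝒳 (D.Q i)).p.obj ⟨o, ho⟩ ⟶ E.obj.left from baseOver D.π o α) ≫ l =
      psiAt (D.φ i) ⟨o, ho⟩ := by
  have : (baseOver D.π o α ≫ l) ≫ D.e i = D.ψ i o ho ≫ D.e i := by
    rw [Category.assoc, hl, ← D.m_eq o i ho, ← psiAt_π]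
    exact baseOver_comp D.π e he' o α
  exact Over.OverMorphism.ext ((cancel_mono (D.e i).left).1 (congrArg CommaMorphism.left this))

/-- The arrow upstairs. -/
def down (o : 𝒳.obj) (α : D.π.obj o ⟶ etaOf E) :
    (D.φ i).obj ⟨o, D.Q_of_arrow i E e he hr o α⟩ ⟶ etaOf (piece D i E l hle) :=
  arr (D.φ i) (E := piece D i E l hle) l rfl ⟨o, D.Q_of_arrow i E e he hr o α⟩
    (baseOver D.π o α) (piece_down_eq D i E e l hl o _ α he)

theorem up_down (o : 𝒳.obj) (α : D.π.obj o ⟶ etaOf E) :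
    up D i E e he l hl hle ⟨o, D.Q_of_arrow i E e he hr o α⟩ (down D i E e he hr l hl hle o α) = α :=
  hom_eq_of_baseOver D.π (by rw [up, baseOver_arr, down, baseOver_arr])

include he hr hl hle in
set_option maxHeartbeats 800000 in
theorem unit_small : Function.Bijective (StMod.unitSect D.π (etaOf E)) := by
  have h := (D.hφ i).2 (piece D i E l hle)
  refine ⟨(injective_iff_map_eq_zero _).2 fun (r : Γ(E.obj.left.left, ⊤)) hr0 => ?_, fun t => ?_⟩
  · refine h.1 (a₁ := (r : Γ(sch (ofSp ((AlgSp.yon S).obj (D.Y i))) (etaOf (piece D i E l hle)), ⊤))) (a₂ := 0) ?_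
    refine StMod.Mod.RelSect.ext _ _ _ fun x α => ?_
    have a := congrArg (fun k : (StMod.O 𝒳).RelSect D.π (etaOf E) => k.1 x.obj (up D i E e he l hl hle x α)) hr0
    change (baseOver D.π x.obj (up D i E e he l hl hle x α)).left.appTop r = 0 at a
    rw [up, baseOver_arr] at a
    rw [map_zero]
    exact a
  · let t' : (StMod.O (fullSub 𝒳 (D.Q i))).RelSect (D.φ i) (etaOf (piece D i E l hle)) :=
      ⟨fun x α => t.1 x.obj (up D i E e he l hl hle x α), fun x' x φ α =>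
        (t.2 φ.hom _).trans (congrArg (t.1 x'.obj) (up_nat D i E e he l hl hle φ α))⟩
    obtain ⟨r, hr'⟩ := h.2 t'
    refine ⟨r, StMod.Mod.RelSect.ext _ _ _ fun o α => ?_⟩
    have a := congrArg (fun k : (StMod.O (fullSub 𝒳 (D.Q i))).RelSect (D.φ i) (etaOf (piece D i E l hle)) =>
      k.1 _ (down D i E e he hr l hl hle o α)) hr'
    change (baseOver (D.φ i) _ (down D i E e he hr l hl hle o α)).left.appTop r =
      t.1 o (up D i E e he l hl hle _ (down D i E e he hr l hl hle o α)) at a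
    rw [down, baseOver_arr] at a
    exact a.trans (congrArg (t.1 o) (up_down D i E e he hr l hl hle o α))

include he hr hl hle in
set_option maxHeartbeats 1600000 in
theorem coh_small {F G : StMod.QCoh 𝒳} (u : F ⟶ G) (hu : StMod.Mod.IsSurj u.hom)
    (hE : IsAffine E.obj.left.left) : Function.Surjective (StMod.Mod.relSectMap D.π u.hom (etaOf E)) := by
  intro t
  let q := subIncl 𝒳 (D.Q i)
  let t' : ((StMod.comapQ q).obj G).obj.RelSect (D.φ i) (etaOf (piece D i E l hle)) :=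
    ⟨fun x α => castTop (StMod.sch_obj_eq q x) _ (t.1 x.obj (up D i E e he l hl hle x α)), fun x' x φ α =>
      (mapTop_comap q G.obj φ _).trans (congrArg _ ((t.2 φ.hom _).trans
        (congrArg (t.1 x'.obj) (up_nat D i E e he l hl hle φ α))))⟩
  have hu' : StMod.Mod.IsSurj ((StMod.comapQ q).map u).hom := fun x hx z => by
    haveI : IsAffine (sch 𝒳 (q.obj x)) := by
      rw [StMod.sch_obj_eq q x]
      exact hx
    obtain ⟨z', rfl⟩ := (castTop_bijective (StMod.sch_obj_eq q x) _).surjective z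
    obtain ⟨w, rfl⟩ := hu (q.obj x) inferInstance z'
    exact ⟨castTop (StMod.sch_obj_eq q x) _ w, castTop_castHom _ _ _⟩
  obtain ⟨s', hs'⟩ := (D.hφ i).1 ((StMod.comapQ q).map u) hu' (piece D i E l hle) hE t'
  refine ⟨⟨fun o α => s'.1 _ (down D i E e he hr l hl hle o α), fun o' o φ α => ?_⟩,
    StMod.Mod.RelSect.ext _ _ _ fun o α => ?_⟩
  · let k : (⟨o', D.Q_of_arrow i E e he hr o' (D.π.map φ ≫ α)⟩ : (fullSub 𝒳 (D.Q i)).obj) ⟶
        ⟨o, D.Q_of_arrow i E e he hr o α⟩ := ObjectProperty.homMk φ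
    refine Eq.trans ?_ ((s'.2 k (down D i E e he hr l hl hle o α)).trans (congrArg (s'.1 _)
      (hom_eq_of_baseOver (D.φ i) ?_)))
    · exact (mapTop_comap q F.obj k _).symm
    · rw [← StMod.map_comp_baseOver, down, down, baseOver_arr, baseOver_arr]
      exact StMod.map_comp_baseOver D.π φ α
  · have a := congrArg (fun k : ((StMod.comapQ q).obj G).obj.RelSect (D.φ i) (etaOf (piece D i E l hle)) =>
      k.1 _ (down D i E e he hr l hl hle o α)) hs'
    refine Eq.trans ?_ (a.trans (congrArg (t.1 o) (up_down D i E e he hr l hl hle o α)))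
    exact (castTop_castHom (StMod.sch_obj_eq q ⟨o, D.Q_of_arrow i E e he hr o α⟩) (u.hom.app o) _).symm

end Piece

theorem exists_cover (E : AlgSp.EtOver ((AlgSp.yon S).obj D.Y₀)) :
    ∃ (e : E.obj.left ⟶ D.Y₀) (i : E.obj.left.left → D.J) (U : E.obj.left.left → E.obj.left.left.Opens),
      (AlgSp.yon S).map e = E.obj.hom ∧ (∀ v, IsAffineOpen (U v)) ∧ (∀ v, v ∈ U v) ∧
        ∀ (v : E.obj.left.left) (V : E.obj.left.left.Opens), V ≤ U v →
          Set.range (Over.homMk V.ι ≫ e : Over.mk (V.ι ≫ E.obj.left.hom) ⟶ D.Y₀).left ⊆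
            Set.range (D.e (i v)).left := by
  obtain ⟨e, he⟩ := (AlgSp.yon S).map_surjective E.obj.hom
  choose i z hz using fun v : E.obj.left.left => D.exists_e_eq (e.left v)
  choose U hU hvU hUW using fun v : E.obj.left.left => exists_isAffineOpen_mem_and_subset (X := E.obj.left.left)
    (x := v) (U := e.left ⁻¹ᵁ (D.e (i v)).left.opensRange) ⟨z v, hz v⟩
  refine ⟨e, i, U, he, hU, hvU, fun v V hV => ?_⟩
  rintro _ ⟨w, rfl⟩
  exact hUW v (hV w.2)

theorem unitIsIso : StMod.UnitIsIso D.π := fun E => by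
  obtain ⟨e, i, U, he, hU, hvU, hr⟩ := D.exists_cover E
  refine unitBijective_of_opens D.π E D.h𝒳.isStack.1 U
    (eq_top_iff.2 fun v _ => TopologicalSpace.Opens.mem_iSup.2 ⟨v, hvU v⟩) fun v V hV => ?_
  let e' : Over.mk (V.ι ≫ E.obj.left.hom) ⟶ D.Y₀ := Over.homMk V.ι ≫ e
  have he' : (AlgSp.yon S).map e' = (openEt E V).obj.hom := by
    rw [Functor.map_comp, he]
    rfl
  obtain ⟨l, hl, hle⟩ := D.exists_piece (i v) (openEt E V) e' he' (hr v V hV)
  exact unit_small D (i v) (openEt E V) e' he' (hr v V hV) l hl hle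

theorem isCohAffine (hqc : AlgSt.IsQuasiCompactMor Scheme.fppfPrecoverage D.π)
    (hqs : AlgSt.IsQuasiSeparatedMor D.π) : StMod.IsCohAffine D.π := by
  intro F G u hu E hE t
  obtain ⟨e, i, U, he, hU, hvU, hr⟩ := D.exists_cover E
  haveI : IsAffine (sch (ofSp ((AlgSp.yon S).obj D.Y₀)) (etaOf E)) := hE
  obtain ⟨C⟩ := exists_chart_at D.π D.h𝒳 (IsAlg.isAlgStack_ofSp ((AlgSp.ofScheme S).obj D.Y₀)) hqc hqs (etaOf E) hE
  let W : E.obj.left.left → Over S := fun v => Over.mk ((U v).ι ≫ E.obj.left.hom)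
  let g : ∀ v, W v ⟶ (ofSp ((AlgSp.yon S).obj D.Y₀)).p.obj (etaOf E) := fun v => openHom E (U v)
  haveI : ∀ v, IsAffine (W v).left := fun v => hU v
  haveI : ∀ v, Flat (g v).left := fun v => inferInstanceAs (Flat (U v).ι)
  refine exists_lift_of_cover D.h𝒳.isStack.1 u C W g (fun v => ⟨v, ⟨v, hvU v⟩, rfl⟩) t fun v => ?_
  let e' : W v ⟶ D.Y₀ := Over.homMk (U v).ι ≫ e
  have he' : (AlgSp.yon S).map e' = (openEt E (U v)).obj.hom := by
    rw [Functor.map_comp, he]
    rfl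
  obtain ⟨l, hl, hle⟩ := D.exists_piece (i v) (openEt E (U v)) e' he' (hr v (U v) le_rfl)
  let tv : G.obj.RelSect D.π (etaOf (openEt E (U v))) :=
    ⟨fun ξ α => t.1 ξ (α ≫ openIncl E (U v)), fun ξ' ξ φ α =>
      (t.2 φ _).trans (congrArg (t.1 ξ') (Category.assoc _ _ _).symm)⟩
  obtain ⟨s', hs'⟩ := coh_small D (i v) (openEt E (U v)) e' he' (hr v (U v) le_rfl) l hl hle u hu (hU v) tv
  have hb : ∀ o : (cat (baseFun D.π (etaOf E)) (g v)).obj,
      (show 𝒳.p.obj o.obj.left.left ⟶ W v from o.obj.hom) ≫ e' = psiAt D.π o.obj.left.left := fun o => by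
    have h1 : (show 𝒳.p.obj o.obj.left.left ⟶ W v from o.obj.hom) ≫ g v =
        baseOver D.π o.obj.left.left o.obj.left.hom :=
      o.property.trans (str_baseFun D.π (etaOf E) o.obj.left)
    rw [← baseOver_comp D.π e he o.obj.left.left o.obj.left.hom, ← h1]
    exact (Category.assoc _ _ _).symm
  let A : ∀ o : (cat (baseFun D.π (etaOf E)) (g v)).obj, D.π.obj o.obj.left.left ⟶ etaOf (openEt E (U v)) :=
    fun o => arr D.π e' he' o.obj.left.left (show 𝒳.p.obj o.obj.left.left ⟶ W v from o.obj.hom) (hb o)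
  refine ⟨fun o => s'.1 o.obj.left.left (A o), fun o' o f => ?_, fun o => ?_⟩
  · refine (s'.2 f.hom.left.left (A o)).trans (congrArg (s'.1 o'.obj.left.left) (hom_eq_of_baseOver D.π ?_))
    rw [← StMod.map_comp_baseOver, baseOver_arr, baseOver_arr]
    exact CostructuredArrow.w f.hom
  · have a := congrArg (fun k : G.obj.RelSect D.π (etaOf (openEt E (U v))) => k.1 o.obj.left.left (A o)) hs'
    refine a.trans (congrArg (t.1 o.obj.left.left) (Stk.EltObj.hom_ext ?_))
    show (eqToHom (D.π.w_obj o.obj.left.left) ≫ (show 𝒳.p.obj o.obj.left.left ⟶ W v from o.obj.hom)) ≫ g v =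
      o.obj.left.hom.hom
    have h1 : (show 𝒳.p.obj o.obj.left.left ⟶ W v from o.obj.hom) ≫ g v =
        baseOver D.π o.obj.left.left o.obj.left.hom :=
      o.property.trans (str_baseFun D.π (etaOf E) o.obj.left)
    rw [Category.assoc, h1]
    simp [StMod.baseOver]

theorem isQuasiCompactMor : AlgSt.IsQuasiCompactMor Scheme.fppfPrecoverage D.π :=
  isQuasiCompactMor_of_local D.h𝒳 (IsAlg.isAlgStack_ofSp ((AlgSp.ofScheme S).obj D.Y₀)) D.V D.isOpen_V D.cover_V
    (fun i => fullSub 𝒳 (D.Q i)) (fun i => ofSp ((AlgSp.yon S).obj (D.Y i))) (fun i => (D.hQ i).2.1)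
    (fun i => IsAlg.isAlgStack_ofSp ((AlgSp.ofScheme S).obj (D.Y i))) D.φ D.hqc D.sq

theorem isQuasiSeparatedMor : AlgSt.IsQuasiSeparatedMor D.π := by
  have hY := IsAlg.isAlgStack_ofSp ((AlgSp.ofScheme S).obj D.Y₀)
  have hYi := fun i => IsAlg.isAlgStack_ofSp ((AlgSp.ofScheme S).obj (D.Y i))
  have hP := Chart.Basic.isAlgStack_fp hY D.h𝒳 D.h𝒳 D.π D.π
  have hPi := fun i => Chart.Basic.isAlgStack_fp (hYi i) (D.hQ i).2.1 (D.hQ i).2.1 (D.φ i) (D.φ i)
  have hQ := Chart.Basic.isAlgStack_fp hP D.h𝒳 D.h𝒳 (FibCat.diag D.π) (FibCat.diag D.π)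
  have hQi := fun i => Chart.Basic.isAlgStack_fp (hPi i) (D.hQ i).2.1 (D.hQ i).2.1 (FibCat.diag (D.φ i))
    (FibCat.diag (D.φ i))
  let W₁ := fun i => AlgSt.Points.map (BasedFunctor.comp (fpFst D.π D.π) D.π) ⁻¹' D.V i
  have hW₁ : ∀ i, IsOpen (W₁ i) := fun i => (D.isOpen_V i).preimage (Chart.Basic.continuous_map hY _)
  rw [Sep.Main4.isQuasiSeparatedMor_iff]
  constructor
  · rw [Chart.QC.repByAlgSpWith_qc_iff D.h𝒳 hP (Sep.Main2.rep1_diag' D.h𝒳 hY D.π)]
    refine isQuasiCompactMor_of_local D.h𝒳 hP W₁ hW₁ (fun x => D.cover_V _) (fun i => fullSub 𝒳 (D.Q i)) _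
      (fun i => (D.hQ i).2.1) hPi (fun i => FibCat.diag (D.φ i)) (fun i => ?_)
      (fun i => (D.sq i).diag D.h𝒳.isStack.1)
    exact (Chart.QC.repByAlgSpWith_qc_iff (D.hQ i).2.1 (hPi i) (Sep.Main2.rep1_diag' (D.hQ i).2.1 (hYi i) (D.φ i))).1
      ((Sep.Main4.isQuasiSeparatedMor_iff (D.φ i)).1 (D.hqs i)).1
  · rw [Chart.QC.repByAlgSpWith_qc_iff D.h𝒳 hQ (Sep.Main2.rep1_diag' D.h𝒳 hP (FibCat.diag D.π))]
    refine isQuasiCompactMor_of_local D.h𝒳 hQ
      (fun i => AlgSt.Points.map (BasedFunctor.comp (fpFst (FibCat.diag D.π) (FibCat.diag D.π)) (FibCat.diag D.π))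
        ⁻¹' W₁ i) (fun i => (hW₁ i).preimage (Chart.Basic.continuous_map hP _))
      (fun x => D.cover_V _) (fun i => fullSub 𝒳 (D.Q i)) _ (fun i => (D.hQ i).2.1) hQi
      (fun i => FibCat.diag (FibCat.diag (D.φ i))) (fun i => ?_)
      (fun i => ((D.sq i).diag D.h𝒳.isStack.1).diag D.h𝒳.isStack.1)
    exact (Chart.QC.repByAlgSpWith_qc_iff (D.hQ i).2.1 (hQi i)
      (Sep.Main2.rep1_diag' (D.hQ i).2.1 (hPi i) (FibCat.diag (D.φ i)))).1
        ((Sep.Main4.isQuasiSeparatedMor_iff (D.φ i)).1 (D.hqs i)).2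

theorem isGoodModuli : StMod.IsGoodModuli D.π :=
  ⟨D.isCohAffine D.isQuasiCompactMor D.isQuasiSeparatedMor, D.unitIsIso⟩

end Datum

end Groth.Agent.H14.GMGlue
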