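import Groth.Agent.H14.Chart.OpenSub2
import Groth.Agent.H14.Chart.QC
import Groth.Agent.H14.Sep.Main4

/-!
Quasi-compactness and quasi-separatedness are local on the target.
-/

set_option autoImplicit false
set_option backward.isDefEq.respectTransparency false
set_option backward.isDefEq.respectTransparency.types false
set_option linter.style.haveILetI false

universe u

open CategoryTheory CategoryTheory.Limits AlgebraicGeometry

noncomputable section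

namespace Groth.Agent.H14.GMGlue

open Groth.Agent.Lib.AlgStack
open Groth.Agent.H14.Chart.OpenSub (rangeObj rangeObj_map rangeObj_subset rangeObj_obj)
open FibCat (IsFibGrpd fp fpFst fpSnd fpLift fpIso overCat diag)
open AlgSt (IsAlgStack overMap)

variable {S : Scheme.{u}} {A B A' B' : AlgSt.Cat S}

/-- A restriction of `f` over the part `W` of the target, as a square. -/
structure Sq (hB : IsFibGrpd B.p) (f : A ⥤ᵇ B) (f' : A' ⥤ᵇ B') (W : Set (AlgSt.Points B)) where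
  a : A' ⥤ᵇ A
  b : B' ⥤ᵇ B
  α : BasedFunctor.comp a f ≅ BasedFunctor.comp f' b
  aff : a.toFunctor.Full ∧ a.toFunctor.Faithful
  bff : b.toFunctor.Full ∧ b.toFunctor.Faithful
  bess : ∀ y : B.obj, rangeObj hB y ⊆ W →
    ∃ (y' : B'.obj) (e : b.obj y' ≅ y), B.p.IsHomLift (𝟙 (B.p.obj y)) e.hom
  aess : ∀ x : A.obj, rangeObj hB (f.obj x) ⊆ W →
    ∃ (x' : A'.obj) (e : a.obj x' ≅ x), A.p.IsHomLift (𝟙 (A.p.obj x)) e.hom

section Map

variable {𝒳 𝒴 𝒮 𝒳' 𝒴' 𝒮' : AlgSt.Cat S}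
  {F : 𝒳 ⥤ᵇ 𝒮} {G : 𝒴 ⥤ᵇ 𝒮} {F' : 𝒳' ⥤ᵇ 𝒮'} {G' : 𝒴' ⥤ᵇ 𝒮'}
  (a : 𝒳' ⥤ᵇ 𝒳) (b : 𝒴' ⥤ᵇ 𝒴) (c : 𝒮' ⥤ᵇ 𝒮)
  (α : BasedFunctor.comp a F ≅ BasedFunctor.comp F' c)
  (β : BasedFunctor.comp b G ≅ BasedFunctor.comp G' c)

theorem fpMap_faithful [a.toFunctor.Faithful] [b.toFunctor.Faithful] :
    (FibProd.fpMap a b c α β).toFunctor.Faithful := ⟨fun {x y f g} h =>
  FibProd.hom_ext (a.toFunctor.map_injective (congrArg (fun m => m.hom.fst) h))
    (b.toFunctor.map_injective (congrArg (fun m => m.hom.snd) h))⟩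

theorem fpMap_full [a.toFunctor.Full] [b.toFunctor.Full] [c.toFunctor.Faithful] :
    (FibProd.fpMap a b c α β).toFunctor.Full := ⟨fun {x y} g => by
  obtain ⟨g₁, h₁⟩ := a.toFunctor.map_surjective g.hom.fst
  obtain ⟨g₂, h₂⟩ := b.toFunctor.map_surjective g.hom.snd
  refine ⟨FibProd.homMk g₁ g₂ (c.toFunctor.map_injective ?_), FibProd.hom_ext h₁ h₂⟩
  have w := g.hom.w
  rw [FibProd.fpMap_iso, FibProd.fpMap_iso, ← h₁, ← h₂] at w
  have n1 : F.map (a.map g₁) ≫ (BasedBasic.appIso α y.obj.fst).hom =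
      (BasedBasic.appIso α x.obj.fst).hom ≫ c.map (F'.map g₁) := α.hom.toNatTrans.naturality g₁
  have n2 : (BasedBasic.appIso β x.obj.snd).inv ≫ G.map (b.map g₂) =
      c.map (G'.map g₂) ≫ (BasedBasic.appIso β y.obj.snd).inv := (β.inv.toNatTrans.naturality g₂).symm
  simp only [Category.assoc] at w
  rw [reassoc_of% n1, n2, cancel_epi] at w
  rw [← cancel_mono (BasedBasic.appIso β y.obj.snd).inv]
  simpa using w⟩

theorem exists_fpMap_iso [c.toFunctor.Full] [c.toFunctor.Faithful] (η : (fp F G).obj)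
    (hxe : ∃ (x : 𝒳'.obj) (e : a.obj x ≅ η.obj.fst), 𝒳.p.IsHomLift (𝟙 (𝒳.p.obj η.obj.fst)) e.hom)
    (hye : ∃ (y : 𝒴'.obj) (e : b.obj y ≅ η.obj.snd), 𝒴.p.IsHomLift (𝟙 (𝒴.p.obj η.obj.snd)) e.hom) :
    ∃ (ξ : (fp F' G').obj) (e : (FibProd.fpMap a b c α β).obj ξ ≅ η),
      (fp F G).p.IsHomLift (𝟙 ((fp F G).p.obj η)) e.hom := by
  obtain ⟨x, e₁, he₁⟩ := hxe
  obtain ⟨y, e₂, he₂⟩ := hye
  have hη : 𝒮.p.IsHomLift (𝟙 (𝒳.p.obj η.obj.fst)) η.obj.iso.hom := η.property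
  let T := 𝒳.p.obj η.obj.fst
  have he₂' : 𝒴.p.IsHomLift (𝟙 T) e₂.hom := by
    have hT : 𝒴.p.obj η.obj.snd = T := FibProd.snd_obj η
    exact hT ▸ he₂
  have hx : 𝒳'.p.obj x = T :=
    (a.w_obj x).symm.trans (IsHomLift.domain_eq 𝒳.p (𝟙 T) e₁.hom)
  have hy : 𝒴'.p.obj y = T :=
    (b.w_obj y).symm.trans (IsHomLift.domain_eq 𝒴.p (𝟙 T) e₂.hom)
  have a1 : 𝒮.p.IsHomLift (𝟙 T) (BasedBasic.appIso α x).inv := BasedNatTrans.isHomLift α.inv hx
  have a2 : 𝒮.p.IsHomLift (𝟙 T) (BasedBasic.appIso β y).hom := BasedNatTrans.isHomLift β.hom hy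
  have b2 : 𝒴.p.IsHomLift (𝟙 T) e₂.inv := IsHomLift.lift_id_inv 𝒴.p T e₂
  let m : c.obj (F'.obj x) ≅ c.obj (G'.obj y) :=
    (BasedBasic.appIso α x).symm ≪≫ F.toFunctor.mapIso e₁ ≪≫ η.obj.iso ≪≫
      (G.toFunctor.mapIso e₂).symm ≪≫ BasedBasic.appIso β y
  have hm : 𝒮.p.IsHomLift (𝟙 T) m.hom := by
    change 𝒮.p.IsHomLift (𝟙 T) ((BasedBasic.appIso α x).inv ≫ F.map e₁.hom ≫ η.obj.iso.hom ≫
      G.map e₂.inv ≫ (BasedBasic.appIso β y).hom)
    infer_instance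
  have hm' : 𝒮'.p.IsHomLift (𝟙 (𝒳'.p.obj x)) (c.toFunctor.preimageIso m).hom := by
    rw [hx, ← BasedFunctor.isHomLift_iff c]
    simpa using hm
  refine ⟨FibProd.objMk x y (c.toFunctor.preimageIso m) hm', FibProd.exists_iso_over e₁ e₂ ?_ he₁⟩
  rw [FibProd.fpMap_iso]
  simp only [m, Functor.preimageIso_hom, Functor.map_preimage, Iso.trans_hom, Iso.symm_hom,
    Functor.mapIso_hom, Functor.mapIso_inv, Category.assoc, Iso.hom_inv_id_assoc]
  simp [← Functor.map_comp]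

end Map

theorem rangeObj_congr {𝒳 : AlgSt.Cat S} (h : IsFibGrpd 𝒳.p) {x y : 𝒳.obj} (e : x ≅ y) :
    rangeObj h x = rangeObj h y :=
  (rangeObj_subset h e.hom).antisymm (rangeObj_subset h e.inv)

variable {hA : IsFibGrpd A.p} {hB : IsFibGrpd B.p} {f : A ⥤ᵇ B} {f' : A' ⥤ᵇ B'} {W : Set (AlgSt.Points B)}

/-- The square of the diagonals. -/
def Sq.diag (s : Sq hB f f' W) (hA : IsFibGrpd A.p) :
    Sq (FibProd.isFibGrpd_fp hA hA hB) (FibCat.diag f) (FibCat.diag f')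
      (AlgSt.Points.map (BasedFunctor.comp (fpFst f f) f) ⁻¹' W) :=
  haveI := s.aff.1
  haveI := s.aff.2
  haveI := s.bff.1
  haveI := s.bff.2
  { a := s.a
    b := FibProd.fpMap s.a s.a s.b s.α s.α
    α := Lib.Fibred.Slice.fpIsoMk (Iso.refl s.a) (Iso.refl s.a) fun x => by
      change f.map (𝟙 _) ≫ ((BasedBasic.appIso s.α x).hom ≫ s.b.map (𝟙 _) ≫ (BasedBasic.appIso s.α x).inv) =
        𝟙 _ ≫ f.map (𝟙 _)
      rw [s.b.toFunctor.map_id, f.toFunctor.map_id]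
      erw [Category.id_comp, Category.id_comp, Category.comp_id]
      exact (BasedBasic.appIso s.α x).hom_inv_id
    aff := s.aff
    bff := ⟨fpMap_full _ _ _ _ _, fpMap_faithful _ _ _ _ _⟩
    bess := fun η hη => by
      have h1 : rangeObj hB (f.obj η.obj.fst) ⊆ W := by
        have e := rangeObj_map (FibProd.isFibGrpd_fp hA hA hB) hB (BasedFunctor.comp (fpFst f f) f) η
        exact e.trans_subset (Set.image_subset_iff.2 hη)
      exact exists_fpMap_iso s.a s.a s.b s.α s.α η (s.aess _ h1)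
        (s.aess _ ((rangeObj_congr hB η.obj.iso).symm.trans_subset h1))
    aess := fun x hx => by
      refine s.aess x ?_
      have e := rangeObj_map (FibProd.isFibGrpd_fp hA hA hB) hB (BasedFunctor.comp (fpFst f f) f)
        ((FibCat.diag f).obj x)
      exact e.trans_subset (Set.image_subset_iff.2 hx) }

theorem isHomLift_id_of_eq {𝒳 : AlgSt.Cat S} {x y : 𝒳.obj} (φ : x ⟶ y) {T U : Over S} (h : T = U)
    (hφ : 𝒳.p.IsHomLift (𝟙 T) φ) : 𝒳.p.IsHomLift (𝟙 U) φ := by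
  subst h; exact hφ

theorem ofChart_id_surjective (V : Over S) (p : AlgSt.Points (overCat V)) :
    ∃ v : V.left, AlgSt.Points.ofChart (BasedFunctor.id (overCat V)) v = p := by
  obtain ⟨U, z, k, rfl⟩ := Chart.Points.exists_ofChart_eq (Yoneda.isFibGrpd_overCat V) p
  obtain ⟨v, ⟨ε⟩⟩ := Chart.Points.exists_iso_overMap z
  exact ⟨v.left k, (Chart.Points.ofChart_overMap v (BasedFunctor.id _) k).symm.trans
    (Chart.Points.ofChart_iso ε k).symm⟩

/-- A test scheme over `W` sees only the restricted morphism. -/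
theorem Sq.compactSpace (s : Sq hB f f' W) (hA' : IsAlgStack Scheme.fppfPrecoverage A')
    (hB' : IsAlgStack Scheme.fppfPrecoverage B') (hA : IsAlgStack Scheme.fppfPrecoverage A)
    (hBa : IsAlgStack Scheme.fppfPrecoverage B)
    (hq : AlgSt.IsQuasiCompactMor Scheme.fppfPrecoverage f') (V : Over S) (hV : IsAffine V.left)
    (y : overCat V ⥤ᵇ B) (hy : Set.range (AlgSt.Points.ofChart y) ⊆ W) :
    CompactSpace (AlgSt.Points (fp y f)) := by
  haveI := s.aff.1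
  haveI := s.aff.2
  haveI := s.bff.1
  haveI := s.bff.2
  have hsub : ∀ t : Over V, rangeObj hB (y.obj t) ⊆ W := fun t => by
    rw [rangeObj_obj hB y t]
    exact (Set.image_subset_range _ _).trans hy
  obtain ⟨y₀, e₀, he₀⟩ := s.bess _ (hsub (Over.mk (𝟙 V)))
  have hyV : B.p.obj (y.obj (Over.mk (𝟙 V))) = V := y.w_obj _
  have hy₀ : B'.p.obj y₀ = V := by
    have := he₀
    exact (s.b.w_obj y₀).symm.trans ((IsHomLift.domain_eq B.p (𝟙 _) e₀.hom).trans hyV)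
  let y' := Yoneda.fromObj hB'.isStack.1 hy₀
  obtain ⟨e₁, he₁⟩ := Yoneda.exists_fromObj_iso hB'.isStack.1 hy₀
  have := he₁
  have h₀ : B.p.IsHomLift (𝟙 V) e₀.hom := isHomLift_id_of_eq e₀.hom hyV he₀
  have h₁ : B.p.IsHomLift (𝟙 V) (s.b.map e₁.hom) := BasedFunctor.preserves_isHomLift s.b (𝟙 V) e₁.hom
  have h₂ : B.p.IsHomLift (𝟙 V) (s.b.map e₁.hom ≫ e₀.hom) := inferInstance
  obtain ⟨β, -⟩ := Yoneda.exists_iso_of_id hB (BasedFunctor.comp y' s.b) y (s.b.map e₁.hom ≫ e₀.hom)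
  haveI := (Chart.QC.isQuasiCompactMor_iff hA' hB').1 hq V hV y'
  let G := FibProd.fpMap (BasedFunctor.id (overCat V)) s.a s.b (F := y) (G := f) (F' := y') (G' := f')
    β.symm s.α
  refine Chart.Basic.compactSpace_of_surjective
    (Chart.Basic.isAlgStack_fp hBa (Chart.Basic.isAlgStack_overCat V) hA y f) (f := G) fun p => ?_
  obtain ⟨p, rfl⟩ := AlgSt.Points.mk_surjective p
  obtain ⟨ξ, e, -⟩ := exists_fpMap_iso (BasedFunctor.id (overCat V)) s.a s.b (F := y) (G := f) (F' := y')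
    (G' := f') β.symm s.α p.obj ⟨p.obj.obj.fst, Iso.refl _, IsHomLift.id rfl⟩
    (s.aess _ ((rangeObj_congr hB p.obj.obj.iso).symm.trans_subset (hsub p.obj.obj.fst)))
  obtain ⟨q, hq'⟩ : ∃ q : AlgSt.Points (fp y' f'), AlgSt.Points.map G q = AlgSt.Points.mk p := by
    have := (Chart.OpenSub.rangeObj_fPt
      (FibProd.isFibGrpd_fp (Yoneda.isFibGrpd_overCat V) hA.isStack.1 hB) p).symm
    have e' := (rangeObj_congr (FibProd.isFibGrpd_fp (Yoneda.isFibGrpd_overCat V) hA.isStack.1 hB) e).trans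
      this.symm
    rw [rangeObj_map (FibProd.isFibGrpd_fp (Yoneda.isFibGrpd_overCat V) hA'.isStack.1 hB'.isStack.1)] at e'
    obtain ⟨q, -, hq'⟩ : AlgSt.Points.mk p ∈ AlgSt.Points.map G '' rangeObj
        (FibProd.isFibGrpd_fp (Yoneda.isFibGrpd_overCat V) hA'.isStack.1 hB'.isStack.1) ξ := by
      rw [e']; exact rfl
    exact ⟨q, hq'⟩
  exact ⟨q, hq'⟩

/-- Quasi-compactness is local on the target. -/
theorem isQuasiCompactMor_of_local (hA : IsAlgStack Scheme.fppfPrecoverage A)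
    (hB : IsAlgStack Scheme.fppfPrecoverage B) {ι : Type u} (W : ι → Set (AlgSt.Points B))
    (hW : ∀ i, IsOpen (W i)) (hcov : ∀ x, ∃ i, x ∈ W i) (A₁ B₁ : ι → AlgSt.Cat S)
    (hA₁ : ∀ i, IsAlgStack Scheme.fppfPrecoverage (A₁ i)) (hB₁ : ∀ i, IsAlgStack Scheme.fppfPrecoverage (B₁ i))
    (f₁ : ∀ i, A₁ i ⥤ᵇ B₁ i) (hf : ∀ i, AlgSt.IsQuasiCompactMor Scheme.fppfPrecoverage (f₁ i))
    (sq : ∀ i, Sq hB.isStack.1 f (f₁ i) (W i)) : AlgSt.IsQuasiCompactMor Scheme.fppfPrecoverage f := by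
  refine (Chart.QC.isQuasiCompactMor_iff hA hB).2 fun V hV y => ?_
  have hcy := Chart.Points.continuous_ofChart hB y
  choose i hi using fun v : V.left => hcov (AlgSt.Points.ofChart y v)
  choose O hO hvO hOW using fun v : V.left => exists_isAffineOpen_mem_and_subset (X := V.left) (x := v)
    (U := ⟨_, (hW (i v)).preimage hcy⟩) (hi v)
  let Q := fp y f
  have hQ := Chart.Basic.isAlgStack_fp hB (Chart.Basic.isAlgStack_overCat V) hA y f
  let Ov : V.left → Over S := fun v => Over.mk ((O v).ι ≫ V.hom)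
  let j : ∀ v, Ov v ⟶ V := fun v => Over.homMk (O v).ι
  let m : ∀ v, fp (overMap (j v)) (fpFst y f) ⥤ᵇ fp y f := fun v => fpSnd _ _
  have hc : ∀ v, IsCompact (Set.range (AlgSt.Points.map (m v))) := fun v => by
    haveI := (sq (i v)).compactSpace (hA₁ _) (hB₁ _) hA hB (hf _) (Ov v) (hO v)
      (BasedFunctor.comp (overMap (j v)) y) (by
        rintro _ ⟨t, rfl⟩
        rw [Chart.Points.ofChart_overMap]
        exact hOW v t.2)
    haveI := Chart.Basic.compactSpace_of_isEquivOver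
      (Chart.Basic.isAlgStack_fp (Chart.Basic.isAlgStack_overCat V) (Chart.Basic.isAlgStack_overCat (Ov v))
        hQ (overMap (j v)) (fpFst y f))
      (Rep.isEquivOver_pasteBase (overMap (j v)) y f)
    exact isCompact_range (Chart.Basic.continuous_map hQ _)
  obtain ⟨t, ht⟩ := isCompact_univ.elim_finite_subcover (fun v => (O v : Set V.left)) (fun v => (O v).2)
    fun v _ => Set.mem_iUnion.2 ⟨v, hvO v⟩
  refine ⟨((t.finite_toSet.isCompact_biUnion fun v _ => hc v).of_isClosed_subset isClosed_univ fun c _ => ?_)⟩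
  obtain ⟨v, hv⟩ := ofChart_id_surjective V (AlgSt.Points.map (fpFst y f) c)
  obtain ⟨w, hwt, hw⟩ := Set.mem_iUnion₂.1 (ht (Set.mem_univ v))
  refine Set.mem_iUnion₂.2 ⟨w, hwt, ?_⟩
  obtain ⟨r, -, hr⟩ := Chart.Basic.exists_points_fp hQ.isStack.1 (Yoneda.isFibGrpd_overCat V)
    (Yoneda.isFibGrpd_overCat (Ov w)) (g := overMap (j w)) (f := fpFst y f)
    (p := AlgSt.Points.ofChart (BasedFunctor.id _) (⟨v, hw⟩ : (O w).toScheme)) (q := c) (by
      rw [Chart.Points.map_ofChart, ← hv]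
      exact Chart.Points.ofChart_overMap (j w) (BasedFunctor.id _) _)
  exact ⟨r, hr⟩

end Groth.Agent.H14.GMGlue
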