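import Groth.Agent.H14.GMGlue.Datum
import Groth.Agent.H14.GMGlue.Square
import Groth.Agent.H14.GenFam.Obj

/-!
The morphism to the glued scheme, and its restrictions.
-/

set_option autoImplicit false
set_option backward.isDefEq.respectTransparency false
set_option backward.isDefEq.respectTransparency.types false
set_option linter.style.haveILetI false

universe u

open CategoryTheory CategoryTheory.Limits AlgebraicGeometry Opposite

noncomputable section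

namespace Groth.Agent.H14.GMGlue

open Groth.Agent.Lib Groth.Agent.Lib.AlgStack
open Groth.Agent.H14.UB (psiAt psiAt_map)
open Groth.Agent.H14.Chart.OpenSub (rangeObj)
open StMod (sch bmap)
open FibCat (IsFibGrpd fp fpFst fpSnd overCat)
open AlgSt (IsAlgStack ofSp ofSpMap fullSub subIncl)

variable {S : Scheme.{u}}

namespace Datum

variable {𝒳 : AlgSt.Cat S} (D : Datum 𝒳)

/-- The open part of the scheme under an object lying in the `i`-th member. -/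
def U (o : 𝒳.obj) (i : D.J) : (sch 𝒳 o).Opens :=
  ⟨pt D.h𝒳.isStack.1 o ⁻¹' D.W i, (D.isOpen_W i).preimage (Chart.Points.continuous_ofChart D.h𝒳 _)⟩

theorem iSup_U (o : 𝒳.obj) : ⨆ i, D.U o i = ⊤ :=
  eq_top_iff.2 fun u _ => by
    obtain ⟨i, hi⟩ := D.hcov (pt D.h𝒳.isStack.1 o u)
    exact TopologicalSpace.Opens.mem_iSup.2 ⟨i, hi⟩

theorem Q_of_range {o' o : 𝒳.obj} (i : D.J) (k : o' ⟶ o) (h : ∀ z, bmap 𝒳 k z ∈ D.U o i) : D.Q i o' :=
  (D.Q_iff i o').2 fun z => by rw [pt_map D.h𝒳.isStack.1 k z]; exact h z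

theorem Q_of_hom {o' o : 𝒳.obj} (i : D.J) (k : o' ⟶ o) (h : D.Q i o) : D.Q i o' :=
  D.Q_of_range i k fun z => (D.Q_iff i o).1 h _

theorem ψ_congr {o o' : 𝒳.obj} (i j : D.J) (k : o' ⟶ o) (hi : D.Q i o) (hj : D.Q j o') :
    bmap 𝒳 k ≫ (D.ψ i o hi).left ≫ (D.e i).left = (D.ψ j o' hj).left ≫ (D.e j).left := by
  have hi' := D.Q_of_hom i k hi
  have e : D.ψ j o' hj ≫ D.e j = 𝒳.p.map k ≫ D.ψ i o hi ≫ D.e i := by
    rw [D.ψ_e i j o' hi' hj, ← D.ψ_map i k hi' hi, Category.assoc]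
  exact (congrArg CommaMorphism.left e).symm

theorem exists_m (o : 𝒳.obj) : ∃ m : 𝒳.p.obj o ⟶ D.Y₀, ∀ (o' : 𝒳.obj) (k : o' ⟶ o) (i : D.J)
    (h : D.Q i o'), 𝒳.p.map k ≫ m = D.ψ i o' h ≫ D.e i := by
  have hX := D.h𝒳.isStack.1
  choose x φ is hφ using fun i => GenFam.exists_obj hX o (D.U o i).ι
  have hQx : ∀ i, D.Q i (x i) := fun i => D.Q_of_range i (φ i) fun z => by
    rw [hφ]
    exact ((is i).hom z).2
  let 𝒰 := (sch 𝒳 o).openCoverOfIsOpenCover (D.U o) (D.iSup_U o)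
  let f : ∀ i, (D.U o i).toScheme ⟶ D.Y₀.left := fun i =>
    (is i).inv ≫ (D.ψ i (x i) (hQx i)).left ≫ (D.e i).left
  have hf : ∀ (o' : 𝒳.obj) (k : o' ⟶ o) (i j : D.J) (h : D.Q j o') (l : sch 𝒳 o' ⟶ (D.U o i).toScheme),
      l ≫ (D.U o i).ι = bmap 𝒳 k → l ≫ f i = (D.ψ j o' h).left ≫ (D.e j).left := fun o' k i j h l hl => by
    obtain ⟨n, hn, -⟩ := GenFam.exists_hom_over hX k (φ i) (l ≫ (is i).inv) (by
      rw [hφ, Category.assoc, Iso.inv_hom_id_assoc, hl])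
    rw [← D.ψ_congr i j n (hQx i) h, hn, Category.assoc]
  have hcomp : ∀ i j, pullback.fst (𝒰.f i) (𝒰.f j) ≫ f i = pullback.snd _ _ ≫ f j := fun i j => by
    obtain ⟨o', k, e, hk⟩ := GenFam.exists_obj hX o (pullback.fst (𝒰.f i) (𝒰.f j) ≫ (D.U o i).ι)
    have hi : D.Q i o' := D.Q_of_range i k fun z => by
      rw [hk]
      exact (pullback.fst (𝒰.f i) (𝒰.f j) (e.hom z)).2
    rw [← cancel_epi e.hom, ← Category.assoc, ← Category.assoc]
    refine (hf o' k i i hi (e.hom ≫ pullback.fst (𝒰.f i) (𝒰.f j))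
      ((Category.assoc _ _ _).trans hk.symm)).trans
      (hf o' k j i hi (e.hom ≫ pullback.snd (𝒰.f i) (𝒰.f j)) ?_).symm
    rw [hk, Category.assoc]
    exact congrArg (e.hom ≫ ·) pullback.condition.symm
  let m₀ := Scheme.Cover.glueMorphisms 𝒰 f hcomp
  have hm : ∀ i, (D.U o i).ι ≫ m₀ = f i := fun i => Scheme.Cover.ι_glueMorphisms 𝒰 f hcomp i
  refine ⟨Over.homMk m₀ (Scheme.Cover.hom_ext 𝒰 _ _ fun i => ?_), fun o' k j h => Over.OverMorphism.ext ?_⟩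
  · show (D.U o i).ι ≫ m₀ ≫ D.Y₀.hom = (D.U o i).ι ≫ (𝒳.p.obj o).hom
    rw [← Category.assoc, hm, Category.assoc, Category.assoc, Over.w (D.e i), Over.w (D.ψ i (x i) (hQx i)),
      ← Over.w (𝒳.p.map (φ i))]
    show (is i).inv ≫ bmap 𝒳 (φ i) ≫ _ = _
    rw [hφ, Category.assoc, Iso.inv_hom_id_assoc]
  · show bmap 𝒳 k ≫ m₀ = (D.ψ j o' h).left ≫ (D.e j).left
    refine Scheme.Cover.hom_ext ((sch 𝒳 o').openCoverOfIsOpenCover (fun i => (bmap 𝒳 k) ⁻¹ᵁ D.U o i)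
      (eq_top_iff.2 fun z _ => ?_)) _ _ fun i => ?_
    · obtain ⟨i, hi⟩ := D.hcov (pt hX o (bmap 𝒳 k z))
      exact TopologicalSpace.Opens.mem_iSup.2 ⟨i, hi⟩
    show ((bmap 𝒳 k) ⁻¹ᵁ D.U o i).ι ≫ bmap 𝒳 k ≫ m₀ = ((bmap 𝒳 k) ⁻¹ᵁ D.U o i).ι ≫ _
    obtain ⟨o'', k', e, hk'⟩ := GenFam.exists_obj hX o' ((bmap 𝒳 k) ⁻¹ᵁ D.U o i).ι
    have hj := D.Q_of_hom j k' h
    have e1 : bmap 𝒳 k' ≫ (D.ψ j o' h).left ≫ (D.e j).left = (D.ψ j o'' hj).left ≫ (D.e j).left :=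
      D.ψ_congr j j k' h hj
    rw [hk'] at e1
    have e2 := hf o'' (k' ≫ k) i j hj (e.hom ≫ (bmap 𝒳 k) ∣_ (D.U o i)) (by
      rw [Category.assoc, morphismRestrict_ι, ← Category.assoc, ← hk', ← StMod.bmap_comp])
    rw [← cancel_epi e.hom]
    simp only [Category.assoc] at e1 e2
    rw [e1, ← e2, ← hm, ← Category.assoc ((bmap 𝒳 k) ∣_ D.U o i), morphismRestrict_ι, Category.assoc]

/-- The morphism to the glued scheme under an object. -/
def m (o : 𝒳.obj) : 𝒳.p.obj o ⟶ D.Y₀ := (D.exists_m o).choose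

theorem m_spec {o' o : 𝒳.obj} (k : o' ⟶ o) (i : D.J) (h : D.Q i o') :
    𝒳.p.map k ≫ D.m o = D.ψ i o' h ≫ D.e i :=
  (D.exists_m o).choose_spec o' k i h

theorem m_eq (o : 𝒳.obj) (i : D.J) (h : D.Q i o) : D.m o = D.ψ i o h ≫ D.e i := by
  rw [← D.m_spec (𝟙 o) i h, 𝒳.p.map_id, Category.id_comp]

theorem m_nat {o' o : 𝒳.obj} (k : o' ⟶ o) : 𝒳.p.map k ≫ D.m o = D.m o' := by
  choose x φ is hφ using fun i => GenFam.exists_obj D.h𝒳.isStack.1 o' (D.U o' i).ι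
  refine Over.OverMorphism.ext (Scheme.Cover.hom_ext ((sch 𝒳 o').openCoverOfIsOpenCover (D.U o') (D.iSup_U o'))
    _ _ fun i => ?_)
  show (D.U o' i).ι ≫ (bmap 𝒳 k ≫ (D.m o).left) = (D.U o' i).ι ≫ (D.m o').left
  have hQ : D.Q i (x i) := D.Q_of_range i (φ i) fun z => by
    rw [hφ]
    exact ((is i).hom z).2
  have e1 := congrArg CommaMorphism.left
    ((D.m_spec (φ i ≫ k) i hQ).trans (D.m_spec (φ i) i hQ).symm)
  change bmap 𝒳 (φ i ≫ k) ≫ (D.m o).left = bmap 𝒳 (φ i) ≫ (D.m o').left at e1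
  rw [StMod.bmap_comp, hφ, Category.assoc, Category.assoc, Category.assoc, cancel_epi] at e1
  exact e1

/-- The morphism to the glued scheme. -/
def π : 𝒳 ⥤ᵇ ofSp ((AlgSp.yon S).obj D.Y₀) := mkFun D.m D.m_nat

theorem psiAt_π (o : 𝒳.obj) : psiAt D.π o = D.m o := psiAt_mkFun _ _ o

theorem comp_π (i : D.J) : BasedFunctor.comp (subIncl 𝒳 (D.Q i)) D.π =
    BasedFunctor.comp (D.φ i) (ofSpMap ((AlgSp.yon S).map (D.e i))) :=
  ofSch_ext fun x => by
    rw [psiAt_comp, psiAt_π, psiAt_ofSpMap]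
    exact (Category.id_comp _).trans (D.m_eq x.obj i x.property)

theorem imgPt_π_mem_iff (i : D.J) (x : AlgSt.Points 𝒳) :
    imgPt D.π x ∈ Set.range (D.e i).left ↔ x ∈ D.W i := by
  constructor
  · intro h
    obtain ⟨o, u, rfl⟩ := exists_pt D.h𝒳.isStack.1 x
    rw [imgPt_pt, psiAt_π] at h
    obtain ⟨j, hj⟩ := D.hcov (pt D.h𝒳.isStack.1 o u)
    obtain ⟨o', k, e, hk⟩ := GenFam.exists_obj D.h𝒳.isStack.1 o (D.U o j).ι
    have hQ : D.Q j o' := D.Q_of_range j k fun z => by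
      rw [hk]
      exact (e.hom z).2
    let z : sch 𝒳 o' := e.inv ⟨u, hj⟩
    have hz : bmap 𝒳 k z = u := by
      show bmap 𝒳 k (e.inv ⟨u, hj⟩) = u
      rw [← Scheme.Hom.comp_apply, hk, Iso.inv_hom_id_assoc]
      rfl
    have e1 : bmap 𝒳 k ≫ (D.m o).left = (D.ψ j o' hQ).left ≫ (D.e j).left :=
      congrArg CommaMorphism.left (D.m_spec k j hQ)
    have h2 : (D.e j).left ((D.ψ j o' hQ).left z) ∈ Set.range (D.e i).left := by
      rw [← Scheme.Hom.comp_apply, ← e1, Scheme.Hom.comp_apply]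
      exact (congrArg (fun t => (D.m o).left t ∈ Set.range (D.e i).left) hz).mpr h
    have := D.mem_W_of_e_eq i j o' hQ z h2
    rwa [pt_map D.h𝒳.isStack.1 k z, hz] at this
  · rintro ⟨p, rfl⟩
    obtain ⟨x, u, rfl⟩ := exists_pt (D.isFib i) p
    rw [map_subIncl_pt D.h𝒳.isStack.1 (D.isFib i), imgPt_pt, psiAt_π, D.m_eq x.obj i x.property]
    exact ⟨_, (Scheme.Hom.comp_apply _ _ u).symm⟩

theorem range_map_e (i : D.J) (q : AlgSt.Points (ofSp ((AlgSp.yon S).obj D.Y₀))) :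
    q ∈ Set.range (AlgSt.Points.map (ofSpMap ((AlgSp.yon S).map (D.e i)))) ↔
      (AlgSp.Points.schemeHomeo D.Y₀).symm (Chart.UnivTop.toSp ((AlgSp.ofScheme S).obj D.Y₀) q) ∈
        Set.range (D.e i).left := by
  let A := (AlgSp.ofScheme S).obj (D.Y i)
  let B := (AlgSp.ofScheme S).obj D.Y₀
  have key : ∀ p, Chart.UnivTop.toSp B (AlgSt.Points.map (ofSpMap ((AlgSp.yon S).map (D.e i))) p) =
      AlgSp.Points.map ((AlgSp.yon S).map (D.e i)) (Chart.UnivTop.toSp A p) :=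
    fun p => Chart.UnivTop.toSp_map (F := A) (G := B) _ p
  constructor
  · rintro ⟨p, rfl⟩
    obtain ⟨y, hy⟩ := (AlgSp.Points.schemeHomeo (D.Y i)).surjective (Chart.UnivTop.toSp A p)
    refine ⟨y, (AlgSp.Points.schemeHomeo D.Y₀).injective ?_⟩
    rw [Homeomorph.apply_symm_apply, key, ← hy]
    exact (AlgSp.Points.map_yon_map_apply (D.e i) y).symm
  · rintro ⟨y, hy⟩
    obtain ⟨p, hp⟩ := Chart.UnivTop.surjective_toSp A (AlgSp.Points.schemeHomeo (D.Y i) y)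
    refine ⟨p, Chart.UnivTop.injective_toSp B ?_⟩
    rw [key, hp, ← (AlgSp.Points.schemeHomeo D.Y₀).apply_symm_apply (Chart.UnivTop.toSp B q), ← hy]
    exact AlgSp.Points.map_yon_map_apply (D.e i) y

theorem preimage_e (i : D.J) :
    AlgSt.Points.map D.π ⁻¹' Set.range (AlgSt.Points.map (ofSpMap ((AlgSp.yon S).map (D.e i)))) = D.W i :=
  Set.ext fun x => (D.range_map_e i _).trans (D.imgPt_π_mem_iff i x)

/-- The part of the points of the glued scheme in the image of `Y i`. -/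
def V (i : D.J) : Set (AlgSt.Points (ofSp ((AlgSp.yon S).obj D.Y₀))) :=
  Set.range (AlgSt.Points.map (ofSpMap ((AlgSp.yon S).map (D.e i))))

theorem isOpen_V (i : D.J) : IsOpen (D.V i) := by
  let B := (AlgSp.ofScheme S).obj D.Y₀
  have h : Continuous fun q : AlgSt.Points (ofSp ((AlgSp.yon S).obj D.Y₀)) =>
      (AlgSp.Points.schemeHomeo D.Y₀).symm (Chart.UnivTop.toSp B q) :=
    (AlgSp.Points.schemeHomeo D.Y₀).symm.continuous.comp (Chart.UnivTop.isHomeomorph_toSp B).continuous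
  rw [show D.V i = (fun q : AlgSt.Points (ofSp ((AlgSp.yon S).obj D.Y₀)) =>
      (AlgSp.Points.schemeHomeo D.Y₀).symm (Chart.UnivTop.toSp B q)) ⁻¹' Set.range (D.e i).left from
    Set.ext fun q => D.range_map_e i q]
  exact (D.e i).left.isOpenEmbedding.isOpen_range.preimage h

theorem cover_V (q : AlgSt.Points (ofSp ((AlgSp.yon S).obj D.Y₀))) : ∃ i, q ∈ D.V i := by
  obtain ⟨i, z, hz⟩ := D.exists_e_eq
    ((AlgSp.Points.schemeHomeo D.Y₀).symm (Chart.UnivTop.toSp ((AlgSp.ofScheme S).obj D.Y₀) q))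
  exact ⟨i, (D.range_map_e i q).2 ⟨z, hz⟩⟩

theorem exists_lift_elt (i : D.J) (y : (ofSp ((AlgSp.yon S).obj D.Y₀)).obj)
    (hy : rangeObj (IsAlg.isAlgStack_ofSp ((AlgSp.ofScheme S).obj D.Y₀)).isStack.1 y ⊆ D.V i) :
    ∃ y', (ofSpMap ((AlgSp.yon S).map (D.e i))).obj y' = y := by
  have hr : Set.range y.sec.down.left ⊆ Set.range (D.e i).left := by
    rintro _ ⟨u, rfl⟩
    have h1 := (D.range_map_e i _).1 (hy ⟨u, rfl⟩)
    have h2 : imgPt (Z := D.Y₀) (BasedFunctor.id (ofSp ((AlgSp.yon S).obj D.Y₀)))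
        (pt (IsAlg.isAlgStack_ofSp ((AlgSp.ofScheme S).obj D.Y₀)).isStack.1 y u) = y.sec.down.left u := by
      rw [imgPt_pt]
      exact congrArg (fun k : y.base ⟶ D.Y₀ => k.left u)
        (congrArg ULift.down (QuotSt.res_rfl (F := (AlgSp.yon S).obj D.Y₀) y))
    rw [imgPt, Chart.Basic.map_id] at h2
    exact h2 ▸ h1
  refine ⟨⟨y.base, ⟨Over.homMk (IsOpenImmersion.lift (D.e i).left y.sec.down.left hr) (by
    rw [← Over.w y.sec.down, ← Over.w (D.e i), IsOpenImmersion.lift_fac_assoc])⟩⟩, ?_⟩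
  exact congrArg (Stk.EltObj.mk y.base) (ULift.ext _ _ (Over.OverMorphism.ext (IsOpenImmersion.lift_fac _ _ _)))

theorem mem_W_of_range (i : D.J) (o : 𝒳.obj)
    (ho : rangeObj (IsAlg.isAlgStack_ofSp ((AlgSp.ofScheme S).obj D.Y₀)).isStack.1 (D.π.obj o) ⊆ D.V i) :
    D.Q i o := by
  refine (D.Q_iff i o).2 fun u => ?_
  rw [← D.preimage_e i]
  refine ho ?_
  rw [Chart.OpenSub.rangeObj_map D.h𝒳.isStack.1 _ D.π o]
  exact ⟨_, ⟨u, rfl⟩, rfl⟩

/-- The restriction of the projection over the image of `Y i`. -/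
def sq (i : D.J) : Sq (IsAlg.isAlgStack_ofSp ((AlgSp.ofScheme S).obj D.Y₀)).isStack.1 D.π (D.φ i) (D.V i) where
  a := subIncl 𝒳 (D.Q i)
  b := ofSpMap ((AlgSp.yon S).map (D.e i))
  α := eqToIso (D.comp_π i)
  aff := ⟨inferInstanceAs (ObjectProperty.ι (D.Q i)).Full, inferInstanceAs (ObjectProperty.ι (D.Q i)).Faithful⟩
  bff :=
    ⟨⟨fun {a b} k => ⟨⟨k.hom, by
      refine ULift.ext _ _ (Over.OverMorphism.ext ((cancel_mono (D.e i).left).1 ?_))
      have := congrArg (fun s : ULift (a.base ⟶ D.Y₀) => s.down.left) k.map_sec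
      exact (Category.assoc _ _ _).trans this⟩, Stk.EltObj.hom_ext rfl⟩⟩,
    ⟨fun {a b k l} h => Stk.EltObj.hom_ext (congrArg (fun z : (ofSpMap ((AlgSp.yon S).map (D.e i))).obj a ⟶ (ofSpMap ((AlgSp.yon S).map (D.e i))).obj b => z.hom) h :)⟩⟩
  bess y hy := by
    obtain ⟨y', rfl⟩ := D.exists_lift_elt i y hy
    exact ⟨y', Iso.refl _, IsHomLift.id rfl⟩
  aess x hx := ⟨⟨x, D.mem_W_of_range i x hx⟩, Iso.refl _, IsHomLift.id rfl⟩

end Datum

end Groth.Agent.H14.GMGlue
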