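import Groth.Agent.H14.UB.UnivSch
import Groth.Agent.H14.UB.Closed
import Groth.Agent.H14.Chart.OpenSub2

/-!
Functors to schemes as natural families of morphisms.
-/

set_option autoImplicit false
set_option backward.isDefEq.respectTransparency false
set_option backward.isDefEq.respectTransparency.types false
set_option linter.style.haveILetI false

universe u

open CategoryTheory CategoryTheory.Limits AlgebraicGeometry Opposite

noncomputable section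

namespace Groth.Agent.H14.GMGlue

open Groth.Agent.Lib Groth.Agent.Lib.AlgStack
open Groth.Agent.Lib.QuotSt (res map_res res_rfl eq_mk_res functor_ext)
open Groth.Agent.H14.UB (objFun secAt psiAt ptMap ptMap_eq_psiAt ofPoint_objFun psiAt_map)
open StMod (sch bmap)
open FibCat (IsFibGrpd fp fpFst fpSnd overCat)
open AlgSt (IsAlgStack ofSp ofSpMap)

variable {S : Scheme.{u}} {𝒳 : AlgSt.Cat S}

theorem res_eq_of_hom {F : AlgSp.Sp S} {a b : Stk.EltObj F.obj} (k : a ⟶ b) {T : Over S}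
    (ea : a.base = T) (eb : b.base = T) (hk : k.hom = eqToHom ea ≫ eqToHom eb.symm) : res a ea = res b eb := by
  rw [← map_res k ea eb (𝟙 T) (by rw [hk, Category.id_comp])]
  simp

theorem psiAt_congr {Z : Over S} {f g : 𝒳 ⥤ᵇ ofSp ((AlgSp.yon S).obj Z)} (α : f ≅ g) (o : 𝒳.obj) :
    psiAt f o = psiAt g o := by
  refine congrArg ULift.down (res_eq_of_hom (F := (AlgSp.yon S).obj Z) (BasedBasic.appIso α o).hom
    (f.w_obj o) (g.w_obj o) ?_)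
  haveI := BasedBasic.appIso_isHomLift α o
  have := IsHomLift.fac' (ofSp ((AlgSp.yon S).obj Z)).p (𝟙 (𝒳.p.obj o)) (BasedBasic.appIso α o).hom
  exact this.trans (congrArg (_ ≫ ·) (Category.id_comp _))

theorem psiAt_res {Z : Over S} (a : Stk.EltObj ((AlgSp.yon S).obj Z).obj) {T T' : Over S} (h : a.base = T)
    (e : T' = T) : (res a (h.trans e.symm)).down = eqToHom e ≫ (res a h).down := by
  subst e
  exact (Category.id_comp _).symm

theorem psiAt_comp {𝒲 : AlgSt.Cat S} {Z : Over S} (K : 𝒲 ⥤ᵇ 𝒳) (ψ : 𝒳 ⥤ᵇ ofSp ((AlgSp.yon S).obj Z))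
    (o : 𝒲.obj) : psiAt (BasedFunctor.comp K ψ) o = eqToHom (K.w_obj o).symm ≫ psiAt ψ (K.obj o) :=
  psiAt_res (ψ.obj (K.obj o)) (ψ.w_obj _) (K.w_obj o).symm

theorem psiAt_ofSpMap {Z Z' : Over S} (ψ : 𝒳 ⥤ᵇ ofSp ((AlgSp.yon S).obj Z)) (g : Z ⟶ Z') (o : 𝒳.obj) :
    psiAt (BasedFunctor.comp ψ (ofSpMap ((AlgSp.yon S).map g))) o = psiAt ψ o ≫ g := by
  have hw : 𝒳.p.obj o = (ψ.obj o).base := (ψ.w_obj o).symm
  exact (Category.assoc (eqToHom hw) (ψ.obj o).sec.down g).symm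

theorem ofSch_obj_eq {Z : Over S} {f g : 𝒳 ⥤ᵇ ofSp ((AlgSp.yon S).obj Z)} {o : 𝒳.obj}
    (h : psiAt f o = psiAt g o) : f.obj o = g.obj o := by
  rw [eq_mk_res (f.obj o) (f.w_obj o), eq_mk_res (g.obj o) (g.w_obj o)]
  exact congrArg _ (ULift.ext _ _ h)

theorem ofSch_ext {Z : Over S} {f g : 𝒳 ⥤ᵇ ofSp ((AlgSp.yon S).obj Z)} (h : ∀ o, psiAt f o = psiAt g o) :
    f = g :=
  functor_ext fun o => ofSch_obj_eq (h o)

variable {Z : Over S} (m : ∀ o : 𝒳.obj, 𝒳.p.obj o ⟶ Z)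
  (hm : ∀ {o' o : 𝒳.obj} (k : o' ⟶ o), 𝒳.p.map k ≫ m o = m o')

/-- The functor of a natural family. -/
def mkFun : 𝒳 ⥤ᵇ ofSp ((AlgSp.yon S).obj Z) where
  toFunctor :=
    { obj := fun o => ⟨𝒳.p.obj o, ⟨m o⟩⟩
      map := fun k => ⟨𝒳.p.map k, ULift.ext _ _ (hm k)⟩
      map_id := fun o => Stk.EltObj.hom_ext (𝒳.p.map_id o)
      map_comp := fun k l => Stk.EltObj.hom_ext (𝒳.p.map_comp k l) }
  w := rfl

theorem psiAt_mkFun (o : 𝒳.obj) : psiAt (mkFun m hm) o = m o :=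
  congrArg ULift.down (res_rfl (F := (AlgSp.yon S).obj Z) ⟨𝒳.p.obj o, ⟨m o⟩⟩)

omit m hm

theorem exists_fp_obj {T : Over S} (g : T ⟶ Z) (π : 𝒳 ⥤ᵇ ofSp ((AlgSp.yon S).obj Z)) (o : 𝒳.obj)
    (b : 𝒳.p.obj o ⟶ T) (hb : b ≫ g = psiAt π o) :
    ∃ P : (fp (ofSpMap ((AlgSp.yon S).map g)) π).obj, ∃ e : (fpSnd (ofSpMap ((AlgSp.yon S).map g)) π).obj P = o,
      eqToHom (by rw [← e]; exact ((fpSnd (ofSpMap ((AlgSp.yon S).map g)) π).w_obj P)) ≫
        psiAt (fpFst (ofSpMap ((AlgSp.yon S).map g)) π) P = b := by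
  let a : (ofSp ((AlgSp.yon S).obj T)).obj := ⟨𝒳.p.obj o, ⟨b⟩⟩
  have hab : (ofSpMap ((AlgSp.yon S).map g)).obj a = π.obj o := by
    rw [eq_mk_res (π.obj o) (π.w_obj o)]
    exact congrArg (Stk.EltObj.mk (𝒳.p.obj o)) (ULift.ext _ _ hb)
  refine ⟨FibProd.objMk a o (eqToIso hab) (IsHomLift.of_fac _ _ _ rfl (π.w_obj o) ?_), rfl, ?_⟩
  · show 𝟙 _ = eqToHom _ ≫ _ ≫ eqToHom _
    rw [eqToIso.hom, eqToHom_map]
    simp
  · exact (Category.id_comp _).trans (congrArg ULift.down (res_rfl (F := (AlgSp.yon S).obj T) a))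

/-- The point of an object. -/
def pt (h : IsFibGrpd 𝒳.p) (o : 𝒳.obj) (u : sch 𝒳 o) : AlgSt.Points 𝒳 :=
  AlgSt.Points.ofChart (objFun h o) u

theorem pt_map (h : IsFibGrpd 𝒳.p) {o' o : 𝒳.obj} (k : o' ⟶ o) (u : sch 𝒳 o') :
    pt h o' u = pt h o (bmap 𝒳 k u) :=
  UB.ofChart_objFun_eq h k u

theorem exists_pt (h : IsFibGrpd 𝒳.p) (p : AlgSt.Points 𝒳) : ∃ o u, pt h o u = p := by
  obtain ⟨p, rfl⟩ := AlgSt.Points.mk_surjective p
  let u : sch 𝒳 p.obj := (eqToHom p.lies.symm : _ ⟶ 𝒳.p.obj p.obj).left (IsLocalRing.closedPoint p.K)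
  have h1 : pt h p.obj u ∈ Chart.OpenSub.rangeObj h p.obj := ⟨u, rfl⟩
  rw [Chart.OpenSub.rangeObj_fPt h p] at h1
  exact ⟨p.obj, u, h1⟩

theorem map_subIncl_pt (h : IsFibGrpd 𝒳.p) {Q : 𝒳.obj → Prop} (hg : IsFibGrpd (AlgSt.fullSub 𝒳 Q).p)
    (x : (AlgSt.fullSub 𝒳 Q).obj) (u : sch 𝒳 x.obj) :
    AlgSt.Points.map (AlgSt.subIncl 𝒳 Q) (pt hg x u) = pt h x.obj u := by
  obtain ⟨e, he⟩ := Yoneda.exists_fromObj_iso hg (U := 𝒳.p.obj x.obj) (z := x) rfl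
  obtain ⟨e', he'⟩ := Yoneda.exists_fromObj_iso h (rfl : 𝒳.p.obj x.obj = 𝒳.p.obj x.obj)
  have h1 : 𝒳.p.IsHomLift (𝟙 (𝒳.p.obj x.obj)) ((AlgSt.subIncl 𝒳 Q).map e.hom) :=
    haveI := he
    BasedFunctor.preserves_isHomLift (AlgSt.subIncl 𝒳 Q) (𝟙 (𝒳.p.obj x.obj)) e.hom
  haveI := he'
  have h2 : 𝒳.p.IsHomLift (𝟙 (𝒳.p.obj x.obj)) e'.inv := inferInstance
  have h3 : 𝒳.p.IsHomLift (𝟙 (𝒳.p.obj x.obj)) ((AlgSt.subIncl 𝒳 Q).map e.hom ≫ e'.inv) := inferInstance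
  obtain ⟨ε, -⟩ := @Yoneda.exists_iso_of_id _ _ _ h (𝒳.p.obj x.obj)
    (BasedFunctor.comp (objFun hg x) (AlgSt.subIncl 𝒳 Q))
    (objFun h x.obj) ((AlgSt.subIncl 𝒳 Q).map e.hom ≫ e'.inv) h3
  exact (Chart.Points.map_ofChart _ _ _).trans (Chart.Points.ofChart_iso ε u)

/-- The point of the target scheme under a point of the stack. -/
def imgPt (ψ : 𝒳 ⥤ᵇ ofSp ((AlgSp.yon S).obj Z)) (x : AlgSt.Points 𝒳) : Z.left :=
  (AlgSp.Points.schemeHomeo Z).symm (Chart.UnivTop.toSp ((AlgSp.ofScheme S).obj Z) (AlgSt.Points.map ψ x))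

theorem imgPt_pt (h : IsFibGrpd 𝒳.p) (ψ : 𝒳 ⥤ᵇ ofSp ((AlgSp.yon S).obj Z)) (o : 𝒳.obj) (u : sch 𝒳 o) :
    imgPt ψ (pt h o u) = (psiAt ψ o).left u := by
  show AlgSp.Points.toScheme Z (Chart.UnivTop.toSp ((AlgSp.ofScheme S).obj Z) (AlgSt.Points.map ψ _)) = _
  rw [pt, Chart.Points.map_ofChart, Chart.UnivTop.toSp_ofChart, ofPoint_objFun, ptMap_eq_psiAt]
  exact AlgSp.Points.toScheme_ofPt _ _

theorem continuous_imgPt (ψ : 𝒳 ⥤ᵇ ofSp ((AlgSp.yon S).obj Z)) : Continuous (imgPt ψ) :=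
  (AlgSp.Points.schemeHomeo Z).symm.continuous.comp
    ((Chart.UnivTop.isHomeomorph_toSp ((AlgSp.ofScheme S).obj Z)).continuous.comp
      (Chart.Basic.continuous_map (IsAlg.isAlgStack_ofSp ((AlgSp.ofScheme S).obj Z)) ψ))

theorem map_eq_iff (ψ : 𝒳 ⥤ᵇ ofSp ((AlgSp.yon S).obj Z)) (x y : AlgSt.Points 𝒳) :
    AlgSt.Points.map ψ x = AlgSt.Points.map ψ y ↔ imgPt ψ x = imgPt ψ y :=
  ⟨fun e => congrArg (fun q => (AlgSp.Points.schemeHomeo Z).symm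
      (Chart.UnivTop.toSp ((AlgSp.ofScheme S).obj Z) q)) e,
    fun e => Chart.UnivTop.injective_toSp ((AlgSp.ofScheme S).obj Z)
      ((AlgSp.Points.schemeHomeo Z).symm.injective e)⟩

/-- The image in a good moduli space of a closed set is closed, and every point is in the image. -/
theorem good_image (h𝒳 : IsAlgStack Scheme.fppfPrecoverage 𝒳)
    (hZ : Groth.Agent.H14.CohBC.CompactPullbacks ((AlgSp.yon S).obj Z)) (ψ : 𝒳 ⥤ᵇ ofSp ((AlgSp.yon S).obj Z))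
    (hqc : AlgSt.IsQuasiCompactMor Scheme.fppfPrecoverage ψ) (hqs : AlgSt.IsQuasiSeparatedMor ψ)
    (h : StMod.IsGoodModuli ψ) : IsClosedMap (imgPt ψ) ∧ Function.Surjective (imgPt ψ) := by
  let M : AlgSp.Space S := (AlgSp.ofScheme S).obj Z
  have hMs := IsAlg.isAlgStack_ofSp M
  refine ⟨fun C hC => ?_, fun z => ?_⟩
  · let I := BasedFunctor.id (ofSp M.obj)
    have hY : ∀ q, AlgSt.Points.map (fpFst I ψ) q = AlgSt.Points.map ψ (AlgSt.Points.map (fpSnd I ψ) q) :=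
      fun q => by
      rw [← Chart.Basic.map_comp, ← Chart.Basic.map_iso (FibCat.fpIso I ψ), Chart.Basic.map_comp,
        Chart.Basic.map_id]
    have e : AlgSt.Points.map ψ '' C =
        AlgSt.Points.map (fpFst I ψ) '' (AlgSt.Points.map (fpSnd I ψ) ⁻¹' C) := by
      ext q
      constructor
      · rintro ⟨x, hx, rfl⟩
        obtain ⟨c, rfl⟩ := Chart.Basic.surjective_fpSnd h𝒳.isStack.1 hMs.isStack.1 hMs.isStack.1 (g := I) ψ
          (fun p => ⟨p, Chart.Basic.map_id p⟩) x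
        exact ⟨c, hx, hY c⟩
      · rintro ⟨c, hc, rfl⟩
        exact ⟨_, hc, (hY c).symm⟩
    have hc : IsClosed (AlgSt.Points.map ψ '' C) := by
      rw [e]
      exact UB.isUnivClosed_goodModuli (M := M) h𝒳 hZ hqc hqs h _ hMs I _
        (hC.preimage (Chart.Basic.continuous_map h𝒳 _))
    have e2 : imgPt ψ '' C = (AlgSp.Points.schemeHomeo Z).symm ''
        (Chart.UnivTop.toSp M '' (AlgSt.Points.map ψ '' C)) := by
      rw [Set.image_image, Set.image_image]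
      rfl
    rw [e2]
    exact (AlgSp.Points.schemeHomeo Z).symm.isClosedMap _
      ((Chart.UnivTop.isHomeomorph_toSp M).isClosedMap _ hc)
  · obtain ⟨q, hq⟩ := Chart.UnivTop.surjective_toSp M (AlgSp.Points.schemeHomeo Z z)
    obtain ⟨x, rfl⟩ := UB.isSurjective_goodModuli (M := M) h𝒳 hZ hqc hqs h q
    exact ⟨x, (congrArg (AlgSp.Points.schemeHomeo Z).symm hq).trans
      ((AlgSp.Points.schemeHomeo Z).symm_apply_apply z)⟩

end Groth.Agent.H14.GMGlue
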